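import Mathlib

/-!
# The TI lemma

`D` a finite group, `P ≤ N ≤ D` with `P` acting freely on `D / N` minus the trivial coset, `M` a
`D`-module.  For `a` fixed by `N`, the sum of the translates of `a` over `D / N` is fixed by `D` and
differs from `a` by a trace `∑_{y ∈ P} y m`.
-/

set_option autoImplicit false

namespace Cfsg.Agent.LieRecognition.FT61.TI

open Finset

section

variable {k D M : Type*} [CommRing k] [Group D] [AddCommGroup M] [Module k M]

theorem exists_sum_eq (ρ : Representation k D M) (P : Subgroup D) [Fintype P] {X : Type*}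
    [MulAction D X] (f : X → M) (hf : ∀ (y : P) (x : X), f ((y : D) • x) = ρ y (f x)) (T : Finset X)
    (hT : ∀ (y : P), ∀ x ∈ T, (y : D) • x ∈ T) (hfree : ∀ (y : P), ∀ x ∈ T, (y : D) • x = x → y = 1) :
    ∃ m : M, ∑ x ∈ T, f x = ∑ y : P, ρ y m := by
  classical
  induction T using Finset.strongInduction with
  | H T ih =>
    rcases T.eq_empty_or_nonempty with rfl | ⟨x₀, hx₀⟩
    · exact ⟨0, by simp⟩
    · set O : Finset X := Finset.univ.image (fun y : P => (y : D) • x₀) with hO
      have hOT : O ⊆ T := by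
        intro x hx
        obtain ⟨y, -, rfl⟩ := Finset.mem_image.1 hx
        exact hT y x₀ hx₀
      have hinj : ∀ y z : P, (y : D) • x₀ = (z : D) • x₀ → y = z := by
        intro y z h
        have h1 : ((z⁻¹ * y : P) : D) • x₀ = x₀ := by
          rw [Subgroup.coe_mul, Subgroup.coe_inv, mul_smul, h, inv_smul_smul]
        have := hfree _ x₀ hx₀ h1
        rw [inv_mul_eq_one] at this
        exact this.symm
      have hx₀O : x₀ ∈ O := Finset.mem_image.2 ⟨1, Finset.mem_univ _, by simp⟩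
      have hss : T \ O ⊂ T := Finset.sdiff_ssubset hOT ⟨x₀, hx₀O⟩
      obtain ⟨m, hm⟩ := ih (T \ O) hss (by
        intro y x hx
        rw [Finset.mem_sdiff] at hx ⊢
        refine ⟨hT y x hx.1, fun h => hx.2 ?_⟩
        obtain ⟨z, -, hz⟩ := Finset.mem_image.1 h
        refine Finset.mem_image.2 ⟨y⁻¹ * z, Finset.mem_univ _, ?_⟩
        rw [Subgroup.coe_mul, Subgroup.coe_inv, mul_smul, hz, inv_smul_smul]) (by
        intro y x hx h
        exact hfree y x (Finset.mem_sdiff.1 hx).1 h)
      refine ⟨m + f x₀, ?_⟩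
      rw [← Finset.sum_sdiff hOT, hm]
      have h2 : ∑ x ∈ O, f x = ∑ y : P, ρ y (f x₀) := by
        rw [hO, Finset.sum_image (by intro y _ z _ h; exact hinj y z h)]
        exact Finset.sum_congr rfl fun y _ => hf y x₀
      rw [h2, ← Finset.sum_add_distrib]
      exact Finset.sum_congr rfl fun y _ => (map_add (ρ y) m (f x₀)).symm

/-- The transfer of an `N`-fixed vector. -/
theorem exists_transfer [Finite D] (ρ : Representation k D M) (P N : Subgroup D) [Fintype P]
    (hPN : P ≤ N) (hTI : ∀ g : D, g ∉ N → ∀ y ∈ P, g⁻¹ * y * g ∈ N → y = 1) (a : M)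
    (ha : ∀ g ∈ N, ρ g a = a) :
    ∃ b m : M, (∀ g : D, ρ g b = b) ∧ b = a + ∑ y : P, ρ y m := by
  classical
  have : Fintype (D ⧸ N) := Fintype.ofFinite _
  have hwd : ∀ g h : D, (g : D ⧸ N) = h → ρ g a = ρ h a := by
    intro g h hgh
    have h1 : g⁻¹ * h ∈ N := QuotientGroup.eq.1 hgh
    have h2 := ha _ h1
    rw [map_mul, Module.End.mul_apply] at h2
    have h3 : ρ g (ρ g⁻¹ (ρ h a)) = ρ g a := by rw [h2]
    rw [← Module.End.mul_apply (ρ g), ← map_mul, mul_inv_cancel, map_one, Module.End.one_apply] at h3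
    exact h3.symm
  let f : D ⧸ N → M := fun q => ρ q.out a
  have hfmk : ∀ g : D, f (g : D ⧸ N) = ρ g a := fun g => hwd _ _ (by simp)
  have hfs : ∀ (g : D) (q : D ⧸ N), f (g • q) = ρ g (f q) := by
    intro g q
    obtain ⟨h, rfl⟩ := QuotientGroup.mk_surjective q
    have : g • (h : D ⧸ N) = ((g * h : D) : D ⧸ N) := rfl
    rw [this, hfmk, hfmk, map_mul, Module.End.mul_apply]
  refine ⟨∑ q, f q, ?_⟩
  obtain ⟨m, hm⟩ := exists_sum_eq ρ P f (fun y x => hfs y x)
    (Finset.univ.erase ((1 : D) : D ⧸ N)) (by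
      intro y x hx
      rw [Finset.mem_erase] at hx ⊢
      refine ⟨fun h => hx.1 ?_, Finset.mem_univ _⟩
      have h1 : x = ((y : D)⁻¹) • ((1 : D) : D ⧸ N) := by rw [← h, inv_smul_smul]
      rw [h1]
      have h2 : ((y : D)⁻¹) • ((1 : D) : D ⧸ N) = (((y : D)⁻¹ * 1 : D) : D ⧸ N) := rfl
      rw [h2, mul_one]
      exact QuotientGroup.eq.2 (by simpa using hPN y.2)) (by
      intro y x hx hy
      obtain ⟨g, rfl⟩ := QuotientGroup.mk_surjective x
      have hg : g ∉ N := by
        intro hg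
        exact (Finset.mem_erase.1 hx).1 (QuotientGroup.eq.2 (by simpa using hg))
      have h2 : (y : D) • (g : D ⧸ N) = (((y : D) * g : D) : D ⧸ N) := rfl
      rw [h2] at hy
      have h3 := QuotientGroup.eq.1 hy.symm
      have := hTI g hg y y.2 (by rwa [← mul_assoc] at h3)
      exact Subtype.ext this)
  refine ⟨m, fun g => ?_, ?_⟩
  · rw [map_sum]
    simp_rw [← hfs]
    exact Fintype.sum_equiv (MulAction.toPerm g) _ _ fun q => rfl
  · rw [← hm, ← Finset.add_sum_erase Finset.univ f (Finset.mem_univ ((1 : D) : D ⧸ N)), hfmk,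
      map_one, Module.End.one_apply]

/-- **TI lemma.** If all traces `∑_{y ∈ P} y m` vanish, the fixed points of `N` are fixed by `D`. -/
theorem fixed_of_fixed [Finite D] (ρ : Representation k D M) (P N : Subgroup D) [Fintype P]
    (hPN : P ≤ N) (hTI : ∀ g : D, g ∉ N → ∀ y ∈ P, g⁻¹ * y * g ∈ N → y = 1)
    (htr : ∀ m : M, ∑ y : P, ρ y m = 0) (a : M) (ha : ∀ g ∈ N, ρ g a = a) (g : D) :
    ρ g a = a := by
  obtain ⟨b, m, hb, hbm⟩ := exists_transfer ρ P N hPN hTI a ha
  rw [htr m, add_zero] at hbm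
  rw [← hbm]
  exact hb g

end

/-- In characteristic `p` the trace of a cyclic group of order `p` is `(x - 1) ^ (p - 1)`. -/
theorem geom_sum_eq {k A : Type*} [Field k] [Ring A] [Algebra k A] (p : ℕ) [Fact p.Prime]
    [CharP k p] (X : A) : ∑ i ∈ Finset.range p, X ^ i = (X - 1) ^ (p - 1) := by
  have hp : p.Prime := Fact.out
  have h1 : ∑ i ∈ Finset.range p, (Polynomial.X : Polynomial k) ^ i =
      (Polynomial.X - 1) ^ (p - 1) := by
    have h2 : (Polynomial.X - 1 : Polynomial k) ≠ 0 := by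
      have := Polynomial.X_sub_C_ne_zero (1 : k)
      simpa using this
    apply mul_right_cancel₀ h2
    rw [geom_sum_mul, ← pow_succ, Nat.sub_add_cancel hp.one_le, sub_pow_char, one_pow]
  have h3 := congrArg (Polynomial.aeval X) h1
  simpa using h3

theorem sum_zpowers {k D M : Type*} [Field k] [Group D] [AddCommGroup M] [Module k M] (p : ℕ)
    [Fact p.Prime] [CharP k p] (ρ : Representation k D M) (x : D) (hx : orderOf x = p)
    [Fintype (Subgroup.zpowers x)] (hn : (ρ x - 1) ^ (p - 1) = 0) (m : M) :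
    ∑ y : Subgroup.zpowers x, ρ y m = 0 := by
  classical
  have hp : p.Prime := Fact.out
  have hfin : IsOfFinOrder x := by
    rw [← orderOf_pos_iff, hx]
    exact hp.pos
  have h1 : ∑ y : Subgroup.zpowers x, ρ y m = ∑ i ∈ Finset.range p, ρ (x ^ i) m := by
    have h2 : ∑ i ∈ Finset.range p, ρ (x ^ i) m = ∑ i : Fin (orderOf x), ρ (x ^ (i : ℕ)) m := by
      rw [hx, Fin.sum_univ_eq_sum_range (fun i => ρ (x ^ i) m)]
    rw [h2]
    refine (Fintype.sum_equiv (finEquivZPowers hfin) _ _ fun i => ?_).symm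
    rw [finEquivZPowers_apply hfin]
  rw [h1]
  have h4 := geom_sum_eq (k := k) p (ρ x)
  rw [hn] at h4
  have h5 := congrArg (fun φ : Module.End k M => φ m) h4
  simp only [LinearMap.sum_apply, LinearMap.zero_apply] at h5
  simpa [map_pow] using h5

end Cfsg.Agent.LieRecognition.FT61.TI
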