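import Mathlib
import Cfsg.Agent.LieRecognition.FT61.TI

/-!
# The invariant form on the three-dimensional module
-/

set_option autoImplicit false

namespace Cfsg.Agent.LieRecognition.FT61.Form

open Finset Module

section

variable {k D U W : Type*} [Field k] [Group D] [AddCommGroup U] [Module k U] [AddCommGroup W]
  [Module k W]

/-- Composition on the left. -/
def lc (U : Type*) [AddCommGroup U] [Module k U] (a : Module.End k W) :
    Module.End k (U →ₗ[k] W) where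
  toFun f := a ∘ₗ f
  map_add' f g := by ext; simp
  map_smul' c f := by ext; simp

/-- Composition on the right. -/
def rc (W : Type*) [AddCommGroup W] [Module k W] (b : Module.End k U) :
    Module.End k (U →ₗ[k] W) where
  toFun f := f ∘ₗ b
  map_add' f g := by ext; simp
  map_smul' c f := by ext; simp

theorem lc_pow (a : Module.End k W) (n : ℕ) : (lc U a) ^ n = lc U (a ^ n) := by
  induction n with
  | zero =>
    apply LinearMap.ext
    intro f
    rfl
  | succ n ih =>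
    rw [pow_succ', pow_succ', ih]
    apply LinearMap.ext
    intro f
    rfl

theorem rc_pow (b : Module.End k U) (n : ℕ) : (rc W b) ^ n = rc W (b ^ n) := by
  induction n with
  | zero =>
    apply LinearMap.ext
    intro f
    rfl
  | succ n ih =>
    rw [pow_succ', pow_succ, ih]
    apply LinearMap.ext
    intro f
    rfl

theorem linHom_sub_one_pow (ρ : Representation k D U) (σ : Representation k D W) {x : D}
    {m n c : ℕ} (h : (ρ x - 1 : Module.End k U) ^ m = 0) (h' : (σ x - 1 : Module.End k W) ^ n = 0)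
    (hc : n + m ≤ c + 1) :
    (Representation.linHom ρ σ x - 1 : Module.End k (U →ₗ[k] W)) ^ c = 0 := by
  set A : Module.End k W := σ x with hA
  set B : Module.End k U := ρ x⁻¹ with hB
  have hB1 : ((B - 1 : Module.End k U)) ^ m = 0 := by
    have e1 : B * ρ x = 1 := by rw [hB, ← map_mul, inv_mul_cancel, map_one]
    have e2 : ρ x * B = 1 := by rw [hB, ← map_mul, mul_inv_cancel, map_one]
    have h3 : B - 1 = (-B) * (ρ x - 1) := by rw [mul_sub, neg_mul, e1, mul_one]; abel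
    have h4 : Commute (-B) (ρ x - 1) := by
      show -B * (ρ x - 1) = (ρ x - 1) * -B
      rw [mul_sub, sub_mul, neg_mul, mul_neg, e1, e2]; simp
    rw [h3, h4.mul_pow, h, mul_zero]
  have h1 : (Representation.linHom ρ σ x - 1 : Module.End k (U →ₗ[k] W)) =
      lc U (A - 1) * rc W B + rc W (B - 1) := by
    apply LinearMap.ext
    intro f
    show A ∘ₗ f ∘ₗ B - f = (A - 1) ∘ₗ (f ∘ₗ B) + f ∘ₗ (B - 1)
    ext u
    simp
  rw [h1]
  have hc1 : Commute (lc U (A - 1)) (rc W B) := by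
    apply LinearMap.ext
    intro f
    rfl
  have hc2 : Commute (lc U (A - 1) * rc W B) (rc W (B - 1)) := by
    apply LinearMap.ext
    intro f
    show (A - 1) ∘ₗ ((f ∘ₗ (B - 1)) ∘ₗ B) = ((A - 1) ∘ₗ (f ∘ₗ B)) ∘ₗ (B - 1)
    ext u
    simp
  refine Commute.add_pow_eq_zero_of_add_le_succ_of_pow_eq_zero hc2 (m := n) (n := m) ?_ ?_ hc
  · rw [hc1.mul_pow, lc_pow, h']
    apply LinearMap.ext
    intro f
    show (0 : Module.End k W) ∘ₗ ((rc W B ^ n) f) = 0
    rw [LinearMap.zero_comp]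
  · rw [rc_pow, hB1]
    apply LinearMap.ext
    intro f
    show f ∘ₗ (0 : Module.End k U) = 0
    rw [LinearMap.comp_zero]

end

section

variable {k A : Type*} [Field k] [Ring A] [Algebra k A]

theorem log_pow (Δ : A) (h : Δ ^ 3 = 0) :
    (Δ - (2 : k)⁻¹ • Δ ^ 2) ^ 2 = Δ ^ 2 ∧ (Δ - (2 : k)⁻¹ • Δ ^ 2) ^ 3 = 0 := by
  have e4 : Δ ^ 2 * Δ = 0 := by rw [← pow_succ, h]
  have e5 : Δ * Δ ^ 2 = 0 := by rw [← pow_succ', h]
  have e6 : Δ ^ 2 * Δ ^ 2 = 0 := by rw [← pow_add, show 2 + 2 = 3 + 1 from rfl, pow_succ, h, zero_mul]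
  have e7 : (Δ - (2 : k)⁻¹ • Δ ^ 2) ^ 2 = Δ ^ 2 := by
    rw [sq (Δ - (2 : k)⁻¹ • Δ ^ 2), sub_mul, mul_sub, mul_sub, smul_mul_assoc, mul_smul_comm,
      smul_mul_assoc, mul_smul_comm, e4, e5, e6]
    simp [sq]
  refine ⟨e7, ?_⟩
  rw [pow_succ, e7, mul_sub, mul_smul_comm, e4, e6]
  simp

theorem one_add_pow_cube (h2 : (2 : k) ≠ 0) (Δ : A) (h : Δ ^ 3 = 0) (a : ℕ) :
    (1 + Δ) ^ a = 1 + (a : k) • Δ + ((a : k) * ((a : k) - 1) * (2 : k)⁻¹) • Δ ^ 2 := by
  induction a with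
  | zero => simp
  | succ a ih =>
    rw [pow_succ, ih, mul_add, mul_one, add_mul, add_mul, one_mul, smul_mul_assoc, smul_mul_assoc,
      ← sq, ← pow_succ, h, smul_zero, add_zero, Nat.cast_succ]
    have h3 : ((a : k) + 1) * ((a : k) + 1 - 1) * (2 : k)⁻¹ =
        (a : k) * ((a : k) - 1) * (2 : k)⁻¹ + a := by
      field_simp
      ring
    rw [h3]
    module

/-- `log (x ^ a) = a log x`. -/
theorem log_pow_eq (h2 : (2 : k) ≠ 0) (Δ : A) (h : Δ ^ 3 = 0) (a : ℕ) :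
    ((1 + Δ) ^ a - 1) - (2 : k)⁻¹ • ((1 + Δ) ^ a - 1) ^ 2 = (a : k) • (Δ - (2 : k)⁻¹ • Δ ^ 2) := by
  have e4 : Δ ^ 2 * Δ = 0 := by rw [← pow_succ, h]
  have e5 : Δ * Δ ^ 2 = 0 := by rw [← pow_succ', h]
  have e6 : Δ ^ 2 * Δ ^ 2 = 0 := by rw [← pow_add, show 2 + 2 = 3 + 1 from rfl, pow_succ, h, zero_mul]
  have e1 : (1 + Δ) ^ a - 1 = (a : k) • Δ + ((a : k) * ((a : k) - 1) * (2 : k)⁻¹) • Δ ^ 2 := by
    rw [one_add_pow_cube h2 Δ h a]
    abel
  rw [e1]
  set c : k := (a : k) * ((a : k) - 1) * (2 : k)⁻¹ with hc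
  have e2 : ((a : k) • Δ + c • Δ ^ 2) ^ 2 = ((a : k) * a) • Δ ^ 2 := by
    rw [sq ((a : k) • Δ + c • Δ ^ 2), add_mul, mul_add, mul_add, smul_mul_smul_comm,
      smul_mul_smul_comm, smul_mul_smul_comm, smul_mul_smul_comm, e4, e5, e6]
    simp [sq]
  rw [e2]
  have h3 : c - (2 : k)⁻¹ * ((a : k) * a) = - (a : k) * (2 : k)⁻¹ := by
    rw [hc]
    ring
  have h4 : (a : k) • Δ + c • Δ ^ 2 - (2 : k)⁻¹ • ((a : k) * a) • Δ ^ 2 =
      (a : k) • Δ + (c - (2 : k)⁻¹ * ((a : k) * a)) • Δ ^ 2 := by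
    module
  rw [h4, h3]
  module

end

section

variable {k U D : Type*} [Field k] [AddCommGroup U] [Module k U] [Group D]

/-- The weight basis. -/
theorem exists_basis (p : ℕ) [Fact p.Prime] [CharP k p] (hp : 7 ≤ p) (ρ : Representation k D U)
    {x : D} (N₁ : Subgroup D) {α : N₁ →* k}
    (hα : ∀ g : N₁, ∃ a : ℕ, (g : D) * x * (g : D)⁻¹ = x ^ a ∧ α g = (a : k)) (v : U)
    (hv3 : ((ρ x - 1 : Module.End k U) ^ 3) v = 0) (hv2 : ((ρ x - 1 : Module.End k U) ^ 2) v ≠ 0)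
    (hspan : ∀ w : U, w ∈ Submodule.span k {v, (ρ x - 1 : Module.End k U) v,
      ((ρ x - 1 : Module.End k U) ^ 2) v})
    (hvα : ∀ g : N₁, ρ g v = α g⁻¹ • v) :
    (ρ x - 1 : Module.End k U) ^ 3 = 0 ∧ ∃ b : Basis (Fin 3) k U,
      (ρ x (b 0) = b 0 + b 1 + (2 : k)⁻¹ • b 2 ∧ ρ x (b 1) = b 1 + b 2 ∧ ρ x (b 2) = b 2) ∧
      ∀ g : N₁, ρ g (b 0) = α g⁻¹ • b 0 ∧ ρ g (b 1) = b 1 ∧ ρ g (b 2) = α g • b 2 := by
  classical
  have hprime : p.Prime := Fact.out
  have h2 : (2 : k) ≠ 0 := by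
    intro h
    have h1 : ((2 : ℕ) : k) = 0 := by exact_mod_cast h
    rw [CharP.cast_eq_zero_iff k p] at h1
    have := Nat.le_of_dvd (by norm_num) h1
    omega
  obtain ⟨Δ, hΔ⟩ : ∃ Δ : Module.End k U, Δ = ρ x - 1 := ⟨_, rfl⟩
  rw [← hΔ] at hv3 hv2 hspan ⊢
  have hspan' : ∀ w : U, ∃ a b c : k, w = a • v + b • Δ v + c • (Δ ^ 2) v := by
    intro w
    have h3 := hspan w
    rw [Submodule.mem_span_insert] at h3
    obtain ⟨a, y, hy, h3⟩ := h3
    rw [Submodule.mem_span_pair] at hy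
    obtain ⟨b, d, hbd⟩ := hy
    exact ⟨a, b, d, by rw [h3, ← hbd, add_assoc]⟩
  have hΔ3 : Δ ^ 3 = 0 := by
    apply LinearMap.ext
    intro w
    obtain ⟨a, b, c, rfl⟩ := hspan' w
    have e1 : (Δ ^ 3) (Δ v) = 0 := by
      rw [← Module.End.mul_apply, ← pow_succ, pow_succ', Module.End.mul_apply, hv3, map_zero]
    have e2 : (Δ ^ 3) ((Δ ^ 2) v) = 0 := by
      rw [← Module.End.mul_apply, ← pow_add, show 3 + 2 = 2 + 3 from rfl, pow_add,
        Module.End.mul_apply, hv3, map_zero]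
    rw [map_add, map_add, map_smul, map_smul, map_smul, hv3, e1, e2]
    simp
  refine ⟨hΔ3, ?_⟩
  obtain ⟨ξ, hξ⟩ : ∃ ξ : Module.End k U, ξ = Δ - (2 : k)⁻¹ • Δ ^ 2 := ⟨_, rfl⟩
  obtain ⟨hξ2, hξ3⟩ := log_pow (k := k) Δ hΔ3
  rw [← hξ] at hξ2 hξ3
  have hxξ : ρ x = 1 + ξ + (2 : k)⁻¹ • ξ ^ 2 := by
    rw [hξ2, hξ, hΔ]
    abel
  have hρΔ : ρ x = 1 + Δ := by rw [hΔ]; abel
  -- the action of `N₁` on `ξ`
  have hgξ : ∀ g : N₁, ρ g * ξ = α g • (ξ * ρ g) := by
    intro g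
    obtain ⟨a, ha, ha'⟩ := hα g
    have h1 : (g : D) * x = x ^ a * (g : D) := by
      rw [← ha]; group
    have h2' : ρ (g : D) * ρ x = ρ x ^ a * ρ (g : D) := by
      rw [← map_mul, h1, map_mul, map_pow]
    have h3 : ρ (g : D) * Δ = ((1 + Δ) ^ a - 1) * ρ g := by
      rw [hΔ, mul_sub, h2', sub_mul, mul_one, one_mul]
      congr 3
      abel
    have h4 : ρ (g : D) * Δ ^ 2 = ((1 + Δ) ^ a - 1) ^ 2 * ρ g := by
      rw [sq Δ, ← mul_assoc, h3, mul_assoc, h3, ← mul_assoc, ← sq]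
    rw [hξ, mul_sub, mul_smul_comm, h3, h4, ← smul_mul_assoc, ← sub_mul, log_pow_eq h2 Δ hΔ3 a,
      ha', smul_mul_assoc]
  have hξ2v : (ξ ^ 2) v = ξ (ξ v) := by rw [sq, Module.End.mul_apply]
  have hξ3v : ξ (ξ (ξ v)) = 0 := by
    rw [← hξ2v, ← Module.End.mul_apply, ← pow_succ', hξ3, LinearMap.zero_apply]
  have hs0 : ξ (ξ v) ≠ 0 := by
    rw [← hξ2v, hξ2]
    exact hv2
  have hli : LinearIndependent k ![v, ξ v, ξ (ξ v)] := by
    rw [Fintype.linearIndependent_iff]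
    intro c hc
    rw [Fin.sum_univ_three] at hc
    have hc' : c 0 • v + c 1 • ξ v + c 2 • ξ (ξ v) = 0 := hc
    have h5 := congrArg (fun w => ξ (ξ w)) hc'
    simp only [map_add, map_smul, hξ3v, map_zero, smul_zero, add_zero] at h5
    have h6 : c 0 = 0 := (smul_eq_zero.1 h5).resolve_right hs0
    rw [h6, zero_smul, zero_add] at hc'
    have h7 := congrArg ξ hc'
    simp only [map_add, map_smul, hξ3v, map_zero, smul_zero, add_zero] at h7
    have h8 : c 1 = 0 := (smul_eq_zero.1 h7).resolve_right hs0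
    rw [h8, zero_smul, zero_add] at hc'
    have h9 : c 2 = 0 := (smul_eq_zero.1 hc').resolve_right hs0
    intro i
    fin_cases i
    · exact h6
    · exact h8
    · exact h9
  have hsp : ⊤ ≤ Submodule.span k (Set.range ![v, ξ v, ξ (ξ v)]) := by
    intro w _
    obtain ⟨a, b, c, rfl⟩ := hspan' w
    have e0 : v ∈ Submodule.span k (Set.range ![v, ξ v, ξ (ξ v)]) :=
      Submodule.subset_span ⟨0, rfl⟩
    have e1 : ξ v ∈ Submodule.span k (Set.range ![v, ξ v, ξ (ξ v)]) :=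
      Submodule.subset_span ⟨1, rfl⟩
    have e2 : ξ (ξ v) ∈ Submodule.span k (Set.range ![v, ξ v, ξ (ξ v)]) :=
      Submodule.subset_span ⟨2, rfl⟩
    have e3 : (Δ ^ 2) v = ξ (ξ v) := by rw [← hξ2v, hξ2]
    have e4 : Δ v = ξ v + (2 : k)⁻¹ • ξ (ξ v) := by
      rw [← e3, hξ]
      simp
    rw [e3, e4]
    exact Submodule.add_mem _ (Submodule.add_mem _ (Submodule.smul_mem _ _ e0)
      (Submodule.smul_mem _ _ (Submodule.add_mem _ e1 (Submodule.smul_mem _ _ e2))))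
      (Submodule.smul_mem _ _ e2)
  obtain ⟨b, hb⟩ : ∃ b : Basis (Fin 3) k U, (b : Fin 3 → U) = ![v, ξ v, ξ (ξ v)] :=
    ⟨Basis.mk hli hsp, Basis.coe_mk hli hsp⟩
  have hb0 : b 0 = v := by rw [hb]; rfl
  have hb1 : b 1 = ξ v := by rw [hb]; rfl
  have hb2 : b 2 = ξ (ξ v) := by rw [hb]; rfl
  have hxw : ∀ w, ρ x w = w + ξ w + (2 : k)⁻¹ • ξ (ξ w) := by
    intro w
    rw [hxξ, sq]
    rfl
  refine ⟨b, ⟨?_, ?_, ?_⟩, fun g => ?_⟩
  · rw [hxw, hb0, hb1, hb2]
  · rw [hxw, hb1, hb2, hξ3v, smul_zero, add_zero]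
  · rw [hxw, hb2, hξ3v, map_zero, smul_zero, add_zero, add_zero]
  · have h5 : ∀ w, ρ g (ξ w) = α g • ξ (ρ g w) := by
      intro w
      have h6 := congrArg (fun T : Module.End k U => T w) (hgξ g)
      exact h6
    have h6 : ρ g (b 1) = b 1 := by
      rw [hb1, h5, hvα, map_smul, smul_smul, ← map_mul, mul_inv_cancel, map_one, one_smul]
    refine ⟨by rw [hb0, hvα], h6, ?_⟩
    rw [hb2, h5, ← hb1, h6]

end

section

variable {k U D : Type*} [Field k] [AddCommGroup U] [Module k U] [Group D]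

/-- A bilinear form invariant under `N` is invariant under `D`. -/
theorem invariant_of_invariant [Finite D] (p : ℕ) [Fact p.Prime] [CharP k p] (hp : 7 ≤ p)
    (ρ : Representation k D U) {x : D} (hx : orderOf x = p) (N : Subgroup D)
    (hxN : Subgroup.zpowers x ≤ N)
    (hTI : ∀ g : D, g ∉ N → ∀ y ∈ Subgroup.zpowers x, g⁻¹ * y * g ∈ N → y = 1)
    (hΔ3 : (ρ x - 1 : Module.End k U) ^ 3 = 0) (β : U →ₗ[k] U →ₗ[k] k)
    (hNS : ∀ g ∈ N, ∀ u w, β (ρ g u) (ρ g w) = β u w) (g : D) (u w : U) :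
    β (ρ g u) (ρ g w) = β u w := by
  classical
  have hn1 : (Representation.linHom ρ (Representation.trivial k D k) x - 1 :
      Module.End k (U →ₗ[k] k)) ^ 3 = 0 := by
    refine linHom_sub_one_pow ρ (Representation.trivial k D k) (m := 3) (n := 1) hΔ3 ?_
      (by norm_num)
    rw [pow_one]
    apply LinearMap.ext
    intro r
    show (r : k) - r = 0
    exact sub_self r
  have hn2 := linHom_sub_one_pow ρ (Representation.linHom ρ (Representation.trivial k D k))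
    (m := 3) (n := 3) (c := p - 1) hΔ3 hn1 (by omega)
  have hρ₂ : ∀ (g : D) (B : U →ₗ[k] U →ₗ[k] k) (u w : U),
      (Representation.linHom ρ (Representation.linHom ρ (Representation.trivial k D k))) g B u w =
        B (ρ g⁻¹ u) (ρ g⁻¹ w) := fun g B u w => rfl
  have : Fintype (Subgroup.zpowers x) := Fintype.ofFinite _
  have hfix := TI.fixed_of_fixed
    (Representation.linHom ρ (Representation.linHom ρ (Representation.trivial k D k)))
    (Subgroup.zpowers x) N hxN hTI (TI.sum_zpowers p _ x hx hn2) β (by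
      intro g hg
      apply LinearMap.ext
      intro u
      apply LinearMap.ext
      intro w
      rw [hρ₂]
      exact hNS _ (N.inv_mem hg) u w)
  have h3 := LinearMap.congr_fun (LinearMap.congr_fun (hfix g⁻¹) u) w
  rw [hρ₂, inv_inv] at h3
  exact h3

end

theorem exists_form {k U D : Type*} [Field k] [AddCommGroup U] [Module k U] [Group D] [Finite D]
    (p : ℕ) [Fact p.Prime] [CharP k p] (hp : 7 ≤ p) (ρ : Representation k D U) {x : D}
    (hx : orderOf x = p) (N₁ : Subgroup D) {α : N₁ →* k}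
    (hα : ∀ g : N₁, ∃ a : ℕ, (g : D) * x * (g : D)⁻¹ = x ^ a ∧ α g = (a : k))
    (N : Subgroup D) (hN : N = Subgroup.zpowers x ⊔ N₁)
    (hTI : ∀ g : D, g ∉ N → ∀ y ∈ Subgroup.zpowers x, g⁻¹ * y * g ∈ N → y = 1) (v : U)
    (hv3 : ((ρ x - 1 : Module.End k U) ^ 3) v = 0) (hv2 : ((ρ x - 1 : Module.End k U) ^ 2) v ≠ 0)
    (hspan : ∀ w : U, w ∈ Submodule.span k {v, (ρ x - 1 : Module.End k U) v,
      ((ρ x - 1 : Module.End k U) ^ 2) v})
    (hvα : ∀ g : N₁, ρ g v = α g⁻¹ • v) :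
    Module.finrank k U = 3 ∧
    ∃ β : LinearMap.BilinForm k U, β.IsSymm ∧ β.Nondegenerate ∧
      ∀ (g : D) (u w : U), β (ρ g u) (ρ g w) = β u w := by
  classical
  obtain ⟨hΔ3, b, ⟨hx0, hx1, hx2⟩, hg⟩ := exists_basis p hp ρ N₁ hα v hv3 hv2 hspan hvα
  have h2 : (2 : k) ≠ 0 := by
    intro h
    have h1 : ((2 : ℕ) : k) = 0 := by exact_mod_cast h
    rw [CharP.cast_eq_zero_iff k p] at h1
    have := Nat.le_of_dvd (by norm_num) h1
    omega
  refine ⟨by rw [Module.finrank_eq_card_basis b]; rfl, ?_⟩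
  let c : Fin 3 → U →ₗ[k] k := fun i => b.coord i
  let β : LinearMap.BilinForm k U := (c 0).smulRight (c 2) - (c 1).smulRight (c 1) +
    (c 2).smulRight (c 0)
  have hβ : ∀ u w, β u w = c 0 u * c 2 w - c 1 u * c 1 w + c 2 u * c 0 w := fun u w => rfl
  have hc : ∀ i j, c i (b j) = if i = j then 1 else 0 := by
    intro i j
    show b.coord i (b j) = _
    rw [Basis.coord_apply, Basis.repr_self, Finsupp.single_apply]
    simp [eq_comm]
  have hsum : ∀ u, u = c 0 u • b 0 + c 1 u • b 1 + c 2 u • b 2 := by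
    intro u
    have h3 := b.sum_repr u
    rw [Fin.sum_univ_three] at h3
    exact h3.symm
  have hsymm : ∀ u w, β u w = β w u := by
    intro u w
    rw [hβ, hβ]
    ring
  have hsep : ∀ u, (∀ w, β u w = 0) → u = 0 := by
    intro u hu
    have h3 := hu (b 0)
    have h4 := hu (b 1)
    have h5 := hu (b 2)
    rw [hβ, hc, hc, hc] at h3 h4 h5
    simp at h3 h4 h5
    rw [hsum u, h3, h4, h5]
    simp
  -- invariance under `x` and `N₁`
  have hβx : ∀ u w, β (ρ x u) (ρ x w) = β u w := by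
    have h3 : ∀ u, ρ x u = c 0 u • b 0 + (c 0 u + c 1 u) • b 1 +
        (c 0 u * (2 : k)⁻¹ + c 1 u + c 2 u) • b 2 := by
      intro u
      conv_lhs => rw [hsum u]
      rw [map_add, map_add, map_smul, map_smul, map_smul, hx0, hx1, hx2]
      module
    have h4 : ∀ u, c 0 (ρ x u) = c 0 u ∧ c 1 (ρ x u) = c 0 u + c 1 u ∧
        c 2 (ρ x u) = c 0 u * (2 : k)⁻¹ + c 1 u + c 2 u := by
      intro u
      refine ⟨?_, ?_, ?_⟩ <;>
      · rw [h3, map_add, map_add, map_smul, map_smul, map_smul, hc, hc, hc]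
        simp
    intro u w
    rw [hβ, hβ, (h4 u).1, (h4 u).2.1, (h4 u).2.2, (h4 w).1, (h4 w).2.1, (h4 w).2.2]
    field_simp
    ring
  have hβN : ∀ g : N₁, ∀ u w, β (ρ g u) (ρ g w) = β u w := by
    intro g
    have hαα : α g⁻¹ * α g = 1 := by rw [← map_mul, inv_mul_cancel, map_one]
    obtain ⟨g0, g1, g2⟩ := hg g
    have h3 : ∀ u, ρ g u = (c 0 u * α g⁻¹) • b 0 + c 1 u • b 1 + (c 2 u * α g) • b 2 := by
      intro u
      conv_lhs => rw [hsum u]
      rw [map_add, map_add, map_smul, map_smul, map_smul, g0, g1, g2, smul_smul, smul_smul]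
    have h4 : ∀ u, c 0 (ρ g u) = c 0 u * α g⁻¹ ∧ c 1 (ρ g u) = c 1 u ∧
        c 2 (ρ g u) = c 2 u * α g := by
      intro u
      refine ⟨?_, ?_, ?_⟩ <;>
      · rw [h3, map_add, map_add, map_smul, map_smul, map_smul, hc, hc, hc]
        simp
    intro u w
    rw [hβ, hβ, (h4 u).1, (h4 u).2.1, (h4 u).2.2, (h4 w).1, (h4 w).2.1, (h4 w).2.2]
    linear_combination (c 0 u * c 2 w + c 2 u * c 0 w) * hαα
  let S : Subgroup D :=
    { carrier := {g | ∀ u w, β (ρ g u) (ρ g w) = β u w}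
      mul_mem' := fun {a b} ha hb u w => by
        rw [map_mul, Module.End.mul_apply, Module.End.mul_apply]
        exact (ha _ _).trans (hb _ _)
      one_mem' := fun u w => by rw [map_one]; rfl
      inv_mem' := fun {a} ha u w => by
        have h3 : ∀ u, ρ a (ρ a⁻¹ u) = u := fun u => by
          rw [← Module.End.mul_apply, ← map_mul, mul_inv_cancel, map_one, Module.End.one_apply]
        have h4 := ha (ρ a⁻¹ u) (ρ a⁻¹ w)
        rw [h3, h3] at h4
        exact h4.symm }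
  have hNS : ∀ g ∈ N, ∀ u w, β (ρ g u) (ρ g w) = β u w := by
    have : N ≤ S := by
      rw [hN]
      refine sup_le ?_ fun g hg => hβN ⟨g, hg⟩
      rw [Subgroup.zpowers_le]
      exact hβx
    intro g hg
    exact this hg
  refine ⟨β, ⟨fun u w => ?_⟩, ⟨?_, ?_⟩, ?_⟩
  · simpa using hsymm u w
  · exact hsep
  · intro u hu
    exact hsep u fun w => by rw [hsymm]; exact hu w
  · exact invariant_of_invariant p hp ρ hx N (by rw [hN]; exact le_sup_left) hTI hΔ3 β hNS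

end Cfsg.Agent.LieRecognition.FT61.Form
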