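import Mathlib

/-!
# Odd order subgroups of the orthogonal group of a nondegenerate 3-dimensional form: linear algebra

`U` is a 3-dimensional space over a field `k` of odd characteristic `p` with a nondegenerate symmetric bilinear
form `β`, and `X` is a finite group of odd order acting faithfully on `U`, preserving `β`.
-/

set_option autoImplicit false

namespace Cfsg.Agent.LieRecognition.FT61.O3Lin

open Module

section form

variable {k U : Type*} [Field k] [AddCommGroup U] [Module k U]

/-- The orthogonal space of a nondegenerate form. -/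
theorem finrank_orth (hU : finrank k U = 3) {β : LinearMap.BilinForm k U} (hnd : β.Nondegenerate)
    (W : Submodule k U) : finrank k (β.orthogonal W) = 3 - finrank k W := by
  have : FiniteDimensional k U := FiniteDimensional.of_finrank_eq_succ hU
  rw [LinearMap.BilinForm.finrank_orthogonal hnd, hU]

theorem exists_ne_zero_pairing {β : LinearMap.BilinForm k U} (hnd : β.Nondegenerate) {n : U}
    (hn : n ≠ 0) : ∃ x, β n x ≠ 0 := by
  by_contra h
  push Not at h
  exact hn (hnd.1 n h)

/-- Two orthogonal singular vectors are proportional. -/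
theorem mem_span_of_singular (hU : finrank k U = 3) {β : LinearMap.BilinForm k U}
    (hsymm : β.IsSymm) (hnd : β.Nondegenerate) {w w' : U} (hw : w ≠ 0) (h1 : β w w = 0)
    (h2 : β w' w' = 0) (h3 : β w w' = 0) : ∃ c : k, w' = c • w := by
  have : FiniteDimensional k U := FiniteDimensional.of_finrank_eq_succ hU
  set W : Submodule k U := Submodule.span k {w, w'} with hW
  have hle : W ≤ β.orthogonal W := by
    rw [hW, Submodule.span_le]
    have h4 : β w' w = 0 := by rw [hsymm.eq]; exact h3
    have key : ∀ u ∈ ({w, w'} : Set U), ∀ v ∈ W, β v u = 0 := by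
      intro u hu v hv
      rw [hW, Submodule.mem_span_pair] at hv
      obtain ⟨a, b, rfl⟩ := hv
      rw [LinearMap.BilinForm.add_left, LinearMap.BilinForm.smul_left,
        LinearMap.BilinForm.smul_left]
      rcases hu with rfl | rfl
      · rw [h1, h4]; ring
      · rw [h3, h2]; ring
    intro u hu
    rw [SetLike.mem_coe, LinearMap.BilinForm.mem_orthogonal_iff]
    intro v hv
    exact key u hu v hv
  have h5 := Submodule.finrank_mono hle
  rw [finrank_orth hU hnd] at h5
  have h6 : finrank k W ≤ 1 := by omega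
  have h7 : Submodule.span k {w} ≤ W := Submodule.span_mono (by simp)
  have h8 : Submodule.span k {w} = W := Submodule.eq_of_le_of_finrank_le h7 (by
    rw [finrank_span_singleton hw]; exact h6)
  have h9 : w' ∈ Submodule.span k {w} := by
    rw [h8]; exact Submodule.subset_span (by simp)
  obtain ⟨c, hc⟩ := Submodule.mem_span_singleton.1 h9
  exact ⟨c, hc.symm⟩

/-- Every vector is orthogonal to some nonzero vector. -/
theorem exists_orth_ne_zero (hU : finrank k U = 3) {β : LinearMap.BilinForm k U}
    (hnd : β.Nondegenerate) (w : U) : ∃ y : U, y ≠ 0 ∧ β w y = 0 := by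
  have : FiniteDimensional k U := FiniteDimensional.of_finrank_eq_succ hU
  have h1 := finrank_orth hU hnd (Submodule.span k {w})
  have h2 : finrank k (Submodule.span k {w}) ≤ 1 := by
    have := finrank_span_le_card (R := k) ({w} : Set U)
    simpa using this
  have h3 : β.orthogonal (Submodule.span k {w}) ≠ ⊥ := by
    intro h
    rw [h, finrank_bot] at h1
    omega
  obtain ⟨y, hy, hy0⟩ := Submodule.exists_mem_ne_zero_of_ne_bot h3
  exact ⟨y, hy0, LinearMap.BilinForm.mem_orthogonal_iff.1 hy w (Submodule.mem_span_singleton_self w)⟩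

/-- If `u` and `v` are independent there is `n ≠ 0` such that every vector orthogonal to `u` and `v` is a
multiple of `n`. -/
theorem exists_normal (hU : finrank k U = 3) {β : LinearMap.BilinForm k U}
    (hnd : β.Nondegenerate) {u v : U} (hu : u ≠ 0) (hv : ∀ c : k, v ≠ c • u) :
    ∃ n : U, n ≠ 0 ∧ β u n = 0 ∧ β v n = 0 ∧ ∀ x, β u x = 0 → β v x = 0 → ∃ c : k, x = c • n := by
  classical
  have : FiniteDimensional k U := FiniteDimensional.of_finrank_eq_succ hU
  set W : Submodule k U := Submodule.span k {u, v} with hW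
  have hlt : Submodule.span k {u} < W := by
    refine lt_of_le_of_ne (Submodule.span_mono (by simp)) ?_
    intro h
    have h1 : v ∈ Submodule.span k {u} := by
      rw [h]; exact Submodule.subset_span (by simp)
    obtain ⟨c, hc⟩ := Submodule.mem_span_singleton.1 h1
    exact hv c hc.symm
  have h1 := Submodule.finrank_lt_finrank_of_lt hlt
  rw [finrank_span_singleton hu] at h1
  have h2 : finrank k W ≤ 2 := by
    have h3 := finrank_span_le_card (R := k) ({u, v} : Set U)
    refine h3.trans ?_
    rw [Set.toFinset_insert, Set.toFinset_singleton]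
    exact Finset.card_le_two
  have h3 : finrank k (β.orthogonal W) = 1 := by
    rw [finrank_orth hU hnd]; omega
  obtain ⟨⟨n, hn⟩, hn0, hspan⟩ := finrank_eq_one_iff'.1 h3
  rw [LinearMap.BilinForm.mem_orthogonal_iff] at hn
  refine ⟨n, fun h => hn0 (Subtype.ext h), hn u (Submodule.subset_span (by simp)),
    hn v (Submodule.subset_span (by simp)), ?_⟩
  intro x hux hvx
  have hx : x ∈ β.orthogonal W := by
    rw [LinearMap.BilinForm.mem_orthogonal_iff]
    intro y hy
    rw [hW, Submodule.mem_span_pair] at hy
    obtain ⟨a, b, rfl⟩ := hy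
    show β (a • u + b • v) x = 0
    rw [LinearMap.BilinForm.add_left, LinearMap.BilinForm.smul_left,
      LinearMap.BilinForm.smul_left, hux, hvx]
    ring
  obtain ⟨c, hc⟩ := hspan ⟨x, hx⟩
  exact ⟨c, (congrArg Subtype.val hc).symm⟩

end form

section isometry

variable {k U : Type*} [Field k] [AddCommGroup U] [Module k U]

/-- `1` is an eigenvalue of an isometry of determinant `1` of a 3-dimensional space. -/
theorem det_sub_one (hU : finrank k U = 3) {β : LinearMap.BilinForm k U} (hnd : β.Nondegenerate)
    {g : U →ₗ[k] U} (hg : ∀ u v, β (g u) (g v) = β u v) :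
    (LinearMap.det g + 1) * LinearMap.det (g - 1) = 0 ∧ LinearMap.det g ^ 2 = 1 := by
  classical
  have : FiniteDimensional k U := FiniteDimensional.of_finrank_eq_succ hU
  let b : Basis (Fin 3) k U := finBasisOfFinrankEq k U hU
  set B := LinearMap.BilinForm.toMatrix b β with hB
  set M := LinearMap.toMatrix b b g with hM
  have hBd : B.det ≠ 0 := (LinearMap.BilinForm.nondegenerate_iff_det_ne_zero b).1 hnd
  have h1 : M.transpose * B * M = B := by
    rw [hM, hB, ← LinearMap.BilinForm.toMatrix_comp]
    congr 1
    ext u v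
    exact hg u v
  have h2 : M.transpose * B * (M - 1) = -((M - 1).transpose * B) := by
    rw [mul_sub, h1, mul_one, Matrix.transpose_sub, Matrix.transpose_one, sub_mul, one_mul]
    abel
  have h3 := congrArg Matrix.det h2
  have h4 := congrArg Matrix.det h1
  rw [Matrix.det_mul, Matrix.det_mul, Matrix.det_transpose, Matrix.det_neg, Matrix.det_mul,
    Matrix.det_transpose, Fintype.card_fin] at h3
  rw [Matrix.det_mul, Matrix.det_mul, Matrix.det_transpose] at h4
  have hMd : M.det = LinearMap.det g := LinearMap.det_toMatrix b g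
  have hMd1 : (M - 1).det = LinearMap.det (g - 1) := by
    rw [← LinearMap.det_toMatrix b (g - 1), map_sub, LinearMap.toMatrix_one]
  rw [← hMd, ← hMd1]
  refine ⟨?_, ?_⟩
  · have h5 : B.det * ((M.det + 1) * (M - 1).det) = 0 := by linear_combination h3
    exact (mul_eq_zero.1 h5).resolve_left hBd
  · have h5 : B.det * (M.det ^ 2 - 1) = 0 := by linear_combination h4
    exact sub_eq_zero.1 ((mul_eq_zero.1 h5).resolve_left hBd)

/-- An isometry of odd order fixes a nonzero vector. -/
theorem exists_fixed (h2 : (2 : k) ≠ 0) (hU : finrank k U = 3) {β : LinearMap.BilinForm k U}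
    (hnd : β.Nondegenerate) {g : U →ₗ[k] U} (hg : ∀ u v, β (g u) (g v) = β u v) {m : ℕ}
    (hm : Odd m) (hgm : g ^ m = 1) : ∃ v : U, v ≠ 0 ∧ g v = v := by
  have : FiniteDimensional k U := FiniteDimensional.of_finrank_eq_succ hU
  obtain ⟨h3, h4⟩ := det_sub_one hU hnd hg
  have h5 : LinearMap.det g = 1 := by
    have h6 : LinearMap.det g ^ m = 1 := by
      rw [← map_pow, hgm, map_one]
    obtain ⟨j, rfl⟩ := hm
    rw [pow_add, pow_mul, h4, one_pow, one_mul, pow_one] at h6
    exact h6
  rw [h5] at h3
  have h6 : LinearMap.det (g - 1) = 0 := by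
    rcases mul_eq_zero.1 h3 with h | h
    · exact absurd (by rw [← h]; norm_num) h2
    · exact h
  have h7 := LinearMap.bot_lt_ker_of_det_eq_zero h6
  obtain ⟨v, hv, hv0⟩ := Submodule.exists_mem_ne_zero_of_ne_bot h7.ne'
  refine ⟨v, hv0, ?_⟩
  rw [LinearMap.mem_ker] at hv
  exact sub_eq_zero.1 hv

/-- An isometry of odd order fixing two independent vectors is the identity. -/
theorem eq_one_of_fixed (h2 : (2 : k) ≠ 0) (hU : finrank k U = 3) {β : LinearMap.BilinForm k U}
    (hsymm : β.IsSymm) (hnd : β.Nondegenerate) {g : U →ₗ[k] U}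
    (hg : ∀ u v, β (g u) (g v) = β u v) {m : ℕ} (hm : Odd m) (hgm : g ^ m = 1) {u v : U}
    (hu : u ≠ 0) (hv : ∀ c : k, v ≠ c • u) (hgu : g u = u) (hgv : g v = v) : g = 1 := by
  obtain ⟨n, hn0, -, -, hn⟩ := exists_normal hU hnd hu hv
  have key : ∀ x, ∃ c : k, g x - x = c • n := by
    intro x
    apply hn
    · rw [LinearMap.BilinForm.sub_right]
      nth_rewrite 1 [← hgu]
      rw [hg, sub_self]
    · rw [LinearMap.BilinForm.sub_right]
      nth_rewrite 1 [← hgv]
      rw [hg, sub_self]
  by_cases hnn : β n n = 0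
  · -- `n` singular
    have h3 : ∀ x, β x n ≠ 0 → g x = x := by
      intro x hx
      obtain ⟨c, hc⟩ := key x
      have h4 : g x = x + c • n := by rw [← hc]; abel
      have h5 := hg x x
      rw [h4] at h5
      simp only [LinearMap.BilinForm.add_left, LinearMap.BilinForm.add_right,
        LinearMap.BilinForm.smul_left, LinearMap.BilinForm.smul_right, hnn] at h5
      rw [hsymm.eq n x] at h5
      have h6 : c * (2 * β x n) = 0 := by linear_combination h5
      have h7 : c = 0 := (mul_eq_zero.1 h6).resolve_right (mul_ne_zero h2 hx)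
      rw [h4, h7, zero_smul, add_zero]
    obtain ⟨x₀, hx₀⟩ := exists_ne_zero_pairing hnd hn0
    rw [hsymm.eq] at hx₀
    ext x
    rw [Module.End.one_apply]
    by_cases hx : β x n = 0
    · have h4 := h3 (x + x₀) (by rw [LinearMap.BilinForm.add_left, hx, zero_add]; exact hx₀)
      rw [map_add, h3 x₀ hx₀] at h4
      exact add_right_cancel h4
    · exact h3 x hx
  · -- `n` nonsingular
    obtain ⟨c, hc⟩ := key n
    have h4 : g n = (1 + c) • n := by
      rw [add_smul, one_smul, ← hc]; abel
    have h5 : (1 + c) ^ 2 = 1 := by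
      have h6 := hg n n
      rw [h4, LinearMap.BilinForm.smul_left, LinearMap.BilinForm.smul_right] at h6
      have h7 : ((1 + c) ^ 2 - 1) * β n n = 0 := by linear_combination h6
      exact sub_eq_zero.1 ((mul_eq_zero.1 h7).resolve_right hnn)
    have h6 : ∀ j : ℕ, (g ^ j) n = (1 + c) ^ j • n := by
      intro j
      induction j with
      | zero => simp
      | succ j ih => rw [pow_succ', Module.End.mul_apply, ih, map_smul, h4, smul_smul, ← pow_succ]
    have h7 : (1 + c) ^ m = 1 := by
      have h8 := h6 m
      rw [hgm, Module.End.one_apply] at h8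
      have h9 : ((1 + c) ^ m - 1) • n = 0 := by rw [sub_smul, one_smul, ← h8, sub_self]
      exact sub_eq_zero.1 ((smul_eq_zero.1 h9).resolve_right hn0)
    have h8 : 1 + c = 1 := by
      obtain ⟨j, rfl⟩ := hm
      rw [pow_add, pow_mul, h5, one_pow, one_mul, pow_one] at h7
      exact h7
    rw [h8, one_smul] at h4
    ext x
    rw [Module.End.one_apply]
    obtain ⟨d, hd⟩ := key x
    have h9 : β (g x - x) n = 0 := by
      rw [LinearMap.BilinForm.sub_left]
      nth_rewrite 1 [← h4]
      rw [hg, sub_self]
    rw [hd, LinearMap.BilinForm.smul_left] at h9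
    have h10 : d = 0 := (mul_eq_zero.1 h9).resolve_right hnn
    rw [h10, zero_smul] at hd
    exact sub_eq_zero.1 hd

/-- An isometry of odd order fixing a singular vector is unipotent. -/
theorem pow_eq_one_of_singular {p : ℕ} [Fact p.Prime] [CharP k p] (hp2 : p ≠ 2)
    (hU : finrank k U = 3)
    {β : LinearMap.BilinForm k U} (hsymm : β.IsSymm) (hnd : β.Nondegenerate) {g : U →ₗ[k] U}
    (hg : ∀ u v, β (g u) (g v) = β u v) {m : ℕ} (hm : Odd m) (hgm : g ^ m = 1) {w : U}
    (hw : w ≠ 0) (hww : β w w = 0) (hgw : g w = w) : g ^ p = 1 := by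
  have hstep1 : ∀ y, β w (g y - y) = 0 := by
    intro y
    rw [LinearMap.BilinForm.sub_right]
    nth_rewrite 1 [← hgw]
    rw [hg, sub_self]
  -- the action on `w^⊥`
  have hstep2 : ∀ x, β w x = 0 → ∃ d : k, g x - x = d • w := by
    intro x hx
    by_cases hxx : β x x = 0
    · obtain ⟨c, rfl⟩ := mem_span_of_singular hU hsymm hnd hw hww hxx hx
      exact ⟨0, by rw [map_smul, hgw, sub_self, zero_smul]⟩
    · -- `w^⊥ = ⟨w, x⟩`
      have hxw : ∀ c : k, x ≠ c • w := by
        rintro c rfl
        apply hxx
        rw [LinearMap.BilinForm.smul_left, LinearMap.BilinForm.smul_right, hww]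
        ring
      have hspan : ∀ y, β w y = 0 → ∃ a b : k, y = a • x + b • w := by
        intro y hy
        -- subtract the projection on `x`
        have h3 : β w (y - (β y x / β x x) • x) = 0 := by
          rw [LinearMap.BilinForm.sub_right, LinearMap.BilinForm.smul_right, hy, hx]; ring
        obtain ⟨n, -, -, -, hn⟩ := exists_normal hU hnd hw hxw
        obtain ⟨c₁, hc₁⟩ := hn w hww (by rw [hsymm.eq]; exact hx)
        have hc₁0 : c₁ ≠ 0 := by
          rintro rfl
          rw [zero_smul] at hc₁
          exact hw hc₁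
        obtain ⟨c₂, hc₂⟩ := hn (y - (β y x / β x x) • x) h3 (by
          rw [LinearMap.BilinForm.sub_right, LinearMap.BilinForm.smul_right, hsymm.eq x y,
            div_mul_cancel₀ _ hxx, sub_self])
        refine ⟨β y x / β x x, c₂ / c₁, ?_⟩
        rw [div_eq_mul_inv c₂, mul_smul]
        have h4 : c₁⁻¹ • w = n := by
          rw [hc₁, smul_smul, inv_mul_cancel₀ hc₁0, one_smul]
        rw [h4, ← hc₂]
        abel
      obtain ⟨a, b, hab⟩ := hspan (g x) (by
        have := hstep1 x
        rw [LinearMap.BilinForm.sub_right, hx, sub_zero] at this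
        exact this)
      have ha2 : a ^ 2 = 1 := by
        have h4 := hg x x
        rw [hab] at h4
        simp only [LinearMap.BilinForm.add_left, LinearMap.BilinForm.add_right,
          LinearMap.BilinForm.smul_left, LinearMap.BilinForm.smul_right, hww, hx,
          hsymm.eq x w] at h4
        have h5 : (a ^ 2 - 1) * β x x = 0 := by linear_combination h4
        exact sub_eq_zero.1 ((mul_eq_zero.1 h5).resolve_right hxx)
      have hpow : ∀ j : ℕ, ∃ d : k, (g ^ j) x = a ^ j • x + d • w := by
        intro j
        induction j with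
        | zero => exact ⟨0, by simp⟩
        | succ j ih =>
          obtain ⟨d, hd⟩ := ih
          refine ⟨a ^ j * b + d, ?_⟩
          rw [pow_succ', Module.End.mul_apply, hd, map_add, map_smul, map_smul, hgw, hab, smul_add,
            smul_smul, smul_smul, add_smul, ← pow_succ, add_assoc]
      have ham : a ^ m = 1 := by
        obtain ⟨d, hd⟩ := hpow m
        rw [hgm, Module.End.one_apply] at hd
        by_contra hne
        have h6 : (1 - a ^ m) • x = d • w := by
          rw [sub_smul, one_smul]
          nth_rewrite 1 [hd]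
          abel
        have h7 : 1 - a ^ m ≠ 0 := fun h => hne (sub_eq_zero.1 h).symm
        apply hxw ((1 - a ^ m)⁻¹ * d)
        rw [mul_smul, ← h6, smul_smul, inv_mul_cancel₀ h7, one_smul]
      have ha1 : a = 1 := by
        obtain ⟨j, rfl⟩ := hm
        rw [pow_add, pow_mul, ha2, one_pow, one_mul, pow_one] at ham
        exact ham
      exact ⟨b, by rw [hab, ha1, one_smul]; abel⟩
  have h3 : (g - 1) ^ 3 = 0 := by
    ext y
    have e1 : ∀ z, (g - 1) z = g z - z := fun z => rfl
    obtain ⟨d, hd⟩ := hstep2 _ (hstep1 y)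
    rw [pow_succ', pow_succ', pow_one, Module.End.mul_apply, Module.End.mul_apply, e1 y,
      e1 (g y - y), hd, e1, map_smul, hgw, sub_self]
    rfl
  have hp3 : 3 ≤ p := by
    have := (Fact.out : p.Prime).two_le
    omega
  have : Nontrivial U := by
    refine ⟨w, 0, hw⟩
  have hchar : CharP (Module.End k U) p := by
    exact charP_of_injective_algebraMap (algebraMap k (Module.End k U)).injective p
  have h4 : (g - 1) ^ p = 0 := by
    obtain ⟨j, rfl⟩ := Nat.exists_eq_add_of_le hp3
    rw [pow_add, h3, zero_mul]
  have h5 : (g - 1) ^ p = g ^ p - 1 := by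
    have := sub_pow_char_of_commute (p := p) (Commute.one_right g)
    rw [this, one_pow]
  rw [h5] at h4
  exact sub_eq_zero.1 h4

/-- A vector spanning the fixed space of an isometry of order `p` is singular. -/
theorem singular_of_pow_eq_one {p : ℕ} [Fact p.Prime] [CharP k p]
    (hU : finrank k U = 3)
    {β : LinearMap.BilinForm k U} (hnd : β.Nondegenerate) {g : U →ₗ[k] U}
    (hg : ∀ u v, β (g u) (g v) = β u v) (hgp : g ^ p = 1) {w : U}
    (hw : w ≠ 0) (hgw : g w = w) (hfix : ∀ v, g v = v → ∃ c : k, v = c • w) : β w w = 0 := by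
  by_contra hww
  have : Nontrivial U := ⟨w, 0, hw⟩
  have hchar : CharP (Module.End k U) p :=
    charP_of_injective_algebraMap (algebraMap k (Module.End k U)).injective p
  have h4 : (g - 1) ^ p = 0 := by
    rw [sub_pow_char_of_commute (p := p) (Commute.one_right g), one_pow, hgp, sub_self]
  have hstep1 : ∀ y, β w ((g - 1) y) = 0 := by
    intro y
    show β w (g y - y) = 0
    rw [LinearMap.BilinForm.sub_right]
    nth_rewrite 1 [← hgw]
    rw [hg, sub_self]
  obtain ⟨y, hy0, hy⟩ := exists_orth_ne_zero hU hnd w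
  -- the last nonzero iterate
  have hex : ∃ j : ℕ, ((g - 1) ^ j) y = 0 := ⟨p, by rw [h4]; rfl⟩
  classical
  set j := Nat.find hex with hj
  have hj0 : ((g - 1) ^ j) y = 0 := Nat.find_spec hex
  have hjpos : j ≠ 0 := by
    intro h
    rw [h, pow_zero, Module.End.one_apply] at hj0
    exact hy0 hj0
  obtain ⟨i, hi⟩ := Nat.exists_eq_succ_of_ne_zero hjpos
  have hi0 : ((g - 1) ^ i) y ≠ 0 := Nat.find_min hex (by omega)
  have hiorth : β w (((g - 1) ^ i) y) = 0 := by
    rcases Nat.eq_zero_or_pos i with h | h
    · rw [h, pow_zero, Module.End.one_apply]; exact hy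
    · obtain ⟨l, rfl⟩ := Nat.exists_eq_succ_of_ne_zero h.ne'
      rw [Nat.succ_eq_add_one, pow_succ', Module.End.mul_apply]
      exact hstep1 _
  have hifix : g (((g - 1) ^ i) y) = ((g - 1) ^ i) y := by
    have h5 : (g - 1) (((g - 1) ^ i) y) = 0 := by
      rw [← Module.End.mul_apply, ← pow_succ', ← Nat.succ_eq_add_one, ← hi]
      exact hj0
    exact sub_eq_zero.1 h5
  obtain ⟨c, hc⟩ := hfix _ hifix
  rw [hc, LinearMap.BilinForm.smul_right] at hiorth
  rcases mul_eq_zero.1 hiorth with h | h
  · rw [h, zero_smul] at hc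
    exact hi0 hc
  · exact hww h

end isometry

end Cfsg.Agent.LieRecognition.FT61.O3Lin
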