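import Mathlib
import Cfsg.Agent.Blocks.SylowIn
import Cfsg.Agent.LieRecognition.FT61.O3Lin

/-!
# Odd order subgroups of `SO_3(k)` of order divisible exactly by `p = char k` have a normal Sylow `p`-subgroup
-/

set_option autoImplicit false

namespace Cfsg.Agent.LieRecognition.FT61.O3

open Module MulAction

/-! ### Counting -/

section count

variable {X : Type*} [Group X] [Finite X]

open scoped Classical in
/-- The number of points of `X / N` fixed by `g`. -/
noncomputable def fixN (N : Subgroup X) (g : X) : ℕ := Nat.card (fixedBy (X ⧸ N) g)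

theorem sum_fixN [Fintype X] (N : Subgroup X) : ∑ g : X, fixN N g = Nat.card X := by
  classical
  have hfin : Finite (X ⧸ N) := Quotient.finite _
  have : Fintype (X ⧸ N) := Fintype.ofFinite _
  have : Fintype (Quotient (orbitRel X (X ⧸ N))) := Fintype.ofFinite _
  have h := MulAction.sum_card_fixedBy_eq_card_orbits_mul_card_group X (X ⧸ N)
  have h1 : Fintype.card (Quotient (orbitRel X (X ⧸ N))) = 1 := by
    have hsub : Subsingleton (orbitRel.Quotient X (X ⧸ N)) :=
      (pretransitive_iff_subsingleton_quotient X (X ⧸ N)).1 inferInstance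
    rw [Fintype.card_eq_one_iff]
    refine ⟨Quotient.mk'' ((1 : X) : X ⧸ N), fun y => ?_⟩
    exact Subsingleton.elim (α := orbitRel.Quotient X (X ⧸ N)) _ _
  rw [h1, one_mul, ← Nat.card_eq_fintype_card] at h
  rw [← h]
  refine Finset.sum_congr rfl fun g _ => ?_
  unfold fixN
  rw [Nat.card_eq_fintype_card]

omit [Finite X] in
theorem mem_fixedBy_iff (N : Subgroup X) (g h : X) :
    ((h : X) : X ⧸ N) ∈ fixedBy (X ⧸ N) g ↔ h⁻¹ * g * h ∈ N := by
  rw [mem_fixedBy]
  show ((g * h : X) : X ⧸ N) = (h : X ⧸ N) ↔ _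
  rw [eq_comm, QuotientGroup.eq, mul_assoc]

theorem fixN_one (N : Subgroup X) : fixN N 1 = N.index := by
  unfold fixN
  have h : fixedBy (X ⧸ N) (1 : X) = Set.univ := by
    ext a
    simp [mem_fixedBy]
  rw [h, Nat.card_univ]
  rfl

theorem fixN_pos (N : Subgroup X) {g h : X} (hg : h⁻¹ * g * h ∈ N) : 0 < fixN N g := by
  have hfin : Finite (X ⧸ N) := Quotient.finite _
  unfold fixN
  have : Nonempty (fixedBy (X ⧸ N) g) := ⟨⟨_, (mem_fixedBy_iff N g h).2 hg⟩⟩
  exact Nat.card_pos

/-- A finite group is not the union of the conjugates of a proper subgroup. -/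
theorem exists_not_conj (N : Subgroup X) (hN : N ≠ ⊤) : ∃ g : X, ∀ h : X, h⁻¹ * g * h ∉ N := by
  classical
  by_contra hcon
  push Not at hcon
  have : Fintype X := Fintype.ofFinite X
  have h1 := sum_fixN N
  rw [← Finset.add_sum_erase _ _ (Finset.mem_univ (1 : X)), fixN_one] at h1
  have h2 : (Finset.univ.erase (1 : X)).card ≤ ∑ g ∈ Finset.univ.erase (1 : X), fixN N g := by
    rw [Finset.card_eq_sum_ones]
    refine Finset.sum_le_sum fun g _ => ?_
    obtain ⟨h, hh⟩ := hcon g
    exact fixN_pos N hh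
  rw [Finset.card_erase_of_mem (Finset.mem_univ _), Finset.card_univ, ← Nat.card_eq_fintype_card] at h2
  have h3 : 0 < Nat.card X := Nat.card_pos
  have h4 : 0 < N.index := Nat.pos_of_ne_zero Subgroup.index_ne_zero_of_finite
  have h5 : N.index = 1 := by omega
  exact hN (Subgroup.index_eq_one.1 h5)

/-- The number of fixed points of a nontrivial element on `X / N`, `N` disjoint from its conjugates. -/
theorem fixN_le_one (N : Subgroup X)
    (hTI : ∀ h t : X, t ≠ 1 → t ∈ N → h⁻¹ * t * h ∈ N → h ∈ N) {g : X} (hg : g ≠ 1) :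
    fixN N g ≤ 1 := by
  have hfin : Finite (X ⧸ N) := Quotient.finite _
  unfold fixN
  have : Subsingleton (fixedBy (X ⧸ N) g) := by
    refine ⟨?_⟩
    rintro ⟨a, ha⟩ ⟨b, hb⟩
    apply Subtype.ext
    induction a using QuotientGroup.induction_on with
    | H a =>
    induction b using QuotientGroup.induction_on with
    | H b =>
    rw [mem_fixedBy_iff] at ha hb
    show (a : X ⧸ N) = b
    rw [QuotientGroup.eq]
    refine hTI (a⁻¹ * b) (a⁻¹ * g * a) ?_ ha ?_
    · intro h
      apply hg
      have : g = a * (a⁻¹ * g * a) * a⁻¹ := by group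
      rw [this, h]; group
    · have : (a⁻¹ * b)⁻¹ * (a⁻¹ * g * a) * (a⁻¹ * b) = b⁻¹ * g * b := by group
      rw [this]; exact hb
  exact Finite.card_le_one_iff_subsingleton.2 this

/-- Two subgroups of order at least `3`, each disjoint from its other conjugates and disjoint from the
conjugates of the other: impossible. -/
theorem false_of_two (N T : Subgroup X)
    (hN : ∀ h t : X, t ≠ 1 → t ∈ N → h⁻¹ * t * h ∈ N → h ∈ N)
    (hT : ∀ h t : X, t ≠ 1 → t ∈ T → h⁻¹ * t * h ∈ T → h ∈ T)
    (hNT : ∀ h t : X, t ≠ 1 → t ∈ T → h⁻¹ * t * h ∉ N)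
    (hN3 : 3 ≤ Nat.card N) (hT3 : 3 ≤ Nat.card T) : False := by
  classical
  have : Fintype X := Fintype.ofFinite X
  have h1 := sum_fixN N
  have h2 := sum_fixN T
  have h3 : ∑ g : X, (fixN N g + fixN T g) = 2 * Nat.card X := by
    rw [Finset.sum_add_distrib, h1, h2]; ring
  rw [← Finset.add_sum_erase _ _ (Finset.mem_univ (1 : X)), fixN_one, fixN_one] at h3
  have h4 : ∑ g ∈ Finset.univ.erase (1 : X), (fixN N g + fixN T g) ≤
      (Finset.univ.erase (1 : X)).card := by
    rw [Finset.card_eq_sum_ones]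
    refine Finset.sum_le_sum fun g hg => ?_
    have hg1 : g ≠ 1 := (Finset.mem_erase.1 hg).1
    have h5 := fixN_le_one N hN hg1
    have h6 := fixN_le_one T hT hg1
    by_cases hz : fixN T g = 0
    · rw [hz]; omega
    · -- `g` fixes a point of `X / T`, so none of `X / N`
      have h7 : fixN N g = 0 := by
        unfold fixN at hz ⊢
        have hne : Nonempty (fixedBy (X ⧸ T) g) := by
          by_contra hemp
          rw [not_nonempty_iff] at hemp
          exact hz Nat.card_of_isEmpty
        obtain ⟨⟨a, ha⟩⟩ := hne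
        have hemp : IsEmpty (fixedBy (X ⧸ N) g) := by
          refine ⟨?_⟩
          rintro ⟨b, hb⟩
          induction a using QuotientGroup.induction_on with
          | H a =>
          induction b using QuotientGroup.induction_on with
          | H b =>
          rw [mem_fixedBy_iff] at ha hb
          refine hNT (a⁻¹ * b) (a⁻¹ * g * a) ?_ ha ?_
          · intro h
            apply hg1
            have : g = a * (a⁻¹ * g * a) * a⁻¹ := by group
            rw [this, h]; group
          · have : (a⁻¹ * b)⁻¹ * (a⁻¹ * g * a) * (a⁻¹ * b) = b⁻¹ * g * b := by group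
            rw [this]; exact hb
        exact Nat.card_of_isEmpty
      omega
  rw [Finset.card_erase_of_mem (Finset.mem_univ _), Finset.card_univ, ← Nat.card_eq_fintype_card] at h4
  have h5 := Subgroup.card_mul_index N
  have h6 := Subgroup.card_mul_index T
  have h7 : 0 < Nat.card X := Nat.card_pos
  have h8 : 3 * N.index ≤ Nat.card X := by rw [← h5]; exact Nat.mul_le_mul_right _ hN3
  have h9 : 3 * T.index ≤ Nat.card X := by rw [← h6]; exact Nat.mul_le_mul_right _ hT3
  omega

end count

/-! ### Stabilizers -/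

section stab

variable {k U X : Type*} [Field k] [AddCommGroup U] [Module k U] [Group X]

/-- The stabilizer of a vector. -/
def vecStab (ρ : Representation k X U) (w : U) : Subgroup X where
  carrier := {g | ρ g w = w}
  mul_mem' := by
    intro a b ha hb
    show ρ (a * b) w = w
    rw [map_mul, Module.End.mul_apply, show ρ b w = w from hb, show ρ a w = w from ha]
  one_mem' := by show ρ 1 w = w; rw [map_one, Module.End.one_apply]
  inv_mem' := by
    intro a ha
    show ρ a⁻¹ w = w
    have h1 : ρ a w = w := ha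
    have h2 : ρ a⁻¹ (ρ a w) = w := by
      rw [← Module.End.mul_apply, ← map_mul, inv_mul_cancel, map_one, Module.End.one_apply]
    rwa [h1] at h2

theorem mem_vecStab {ρ : Representation k X U} {w : U} {g : X} : g ∈ vecStab ρ w ↔ ρ g w = w := Iff.rfl

/-- The stabilizer of the line spanned by a vector. -/
def lineStab (ρ : Representation k X U) (w : U) : Subgroup X where
  carrier := {g | ∃ c : k, c ≠ 0 ∧ ρ g w = c • w}
  mul_mem' := by
    rintro a b ⟨c, hc, ha⟩ ⟨d, hd, hb⟩
    refine ⟨d * c, mul_ne_zero hd hc, ?_⟩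
    rw [map_mul, Module.End.mul_apply, hb, map_smul, ha, smul_smul]
  one_mem' := ⟨1, one_ne_zero, by rw [map_one, Module.End.one_apply, one_smul]⟩
  inv_mem' := by
    rintro a ⟨c, hc, ha⟩
    refine ⟨c⁻¹, inv_ne_zero hc, ?_⟩
    have h2 : ρ a⁻¹ (ρ a w) = w := by
      rw [← Module.End.mul_apply, ← map_mul, inv_mul_cancel, map_one, Module.End.one_apply]
    rw [ha, map_smul] at h2
    have h3 := congrArg (fun v => c⁻¹ • v) h2
    simp only [smul_smul, inv_mul_cancel₀ hc, one_smul] at h3
    exact h3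

theorem mem_lineStab {ρ : Representation k X U} {w : U} {g : X} :
    g ∈ lineStab ρ w ↔ ∃ c : k, c ≠ 0 ∧ ρ g w = c • w := Iff.rfl

theorem rho_ne_zero (ρ : Representation k X U) (g : X) {w : U} (hw : w ≠ 0) : ρ g w ≠ 0 := by
  intro h
  apply hw
  have h2 : ρ g⁻¹ (ρ g w) = w := by
    rw [← Module.End.mul_apply, ← map_mul, inv_mul_cancel, map_one, Module.End.one_apply]
  rw [h, map_zero] at h2
  exact h2.symm

theorem mem_lineStab' {ρ : Representation k X U} {w : U} (hw : w ≠ 0) {g : X} {c : k}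
    (h : ρ g w = c • w) : g ∈ lineStab ρ w := by
  refine ⟨c, ?_, h⟩
  rintro rfl
  rw [zero_smul] at h
  exact rho_ne_zero ρ g hw h

theorem vecStab_le (ρ : Representation k X U) (w : U) : vecStab ρ w ≤ lineStab ρ w :=
  fun _ hg => ⟨1, one_ne_zero, by rw [one_smul]; exact hg⟩

theorem mem_lineStab_conj {ρ : Representation k X U} {w : U} {g h : X} :
    g ∈ lineStab ρ (ρ h w) ↔ h⁻¹ * g * h ∈ lineStab ρ w := by
  have e : ∀ c : k, (ρ (h⁻¹ * g * h) w = c • w ↔ ρ g (ρ h w) = c • ρ h w) := by
    intro c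
    rw [map_mul, map_mul, Module.End.mul_apply, Module.End.mul_apply, ← map_smul]
    constructor
    · intro h1
      have h2 := congrArg (ρ h) h1
      rw [← Module.End.mul_apply (ρ h) (ρ h⁻¹), ← map_mul, mul_inv_cancel, map_one,
        Module.End.one_apply] at h2
      exact h2
    · intro h1
      rw [h1, ← Module.End.mul_apply (ρ h⁻¹) (ρ h), ← map_mul, inv_mul_cancel, map_one,
        Module.End.one_apply]
  rw [mem_lineStab, mem_lineStab]
  simp only [e]

theorem mem_vecStab_conj {ρ : Representation k X U} {w : U} {g h : X} :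
    g ∈ vecStab ρ (ρ h w) ↔ h⁻¹ * g * h ∈ vecStab ρ w := by
  rw [mem_vecStab, mem_vecStab, map_mul, map_mul, Module.End.mul_apply, Module.End.mul_apply]
  constructor
  · intro h1
    rw [h1, ← Module.End.mul_apply (ρ h⁻¹) (ρ h), ← map_mul, inv_mul_cancel, map_one,
      Module.End.one_apply]
  · intro h1
    have h2 := congrArg (ρ h) h1
    rw [← Module.End.mul_apply (ρ h) (ρ h⁻¹), ← map_mul, mul_inv_cancel, map_one,
      Module.End.one_apply] at h2
    exact h2

end stab

/-! ### The theorem -/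

section main

variable {k U X : Type*} [Field k] [AddCommGroup U] [Module k U]
    [Group X] [Finite X]

/-- An element of odd order whose square is in a subgroup is in the subgroup. -/
theorem mem_of_sq_mem (hodd : Odd (Nat.card X)) {H : Subgroup X} {g : X} (h : g * g ∈ H) :
    g ∈ H := by
  obtain ⟨m, hm⟩ := hodd
  have h1 : g ^ (2 * m + 1) = 1 := by rw [← hm]; exact pow_card_eq_one'
  have h2 : (g * g) ^ (m + 1) = g := by
    rw [← pow_two, ← pow_mul, mul_add, mul_one, show 2 * m + 2 = (2 * m + 1) + 1 by ring, pow_succ,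
      h1, one_mul]
  rw [← h2]
  exact H.pow_mem h _

/-- The data: a nondegenerate symmetric form in dimension 3, `2 ≠ 0`, preserved by a faithful group of odd order. -/
structure Dat (β : LinearMap.BilinForm k U) (ρ : Representation k X U) : Prop where
  two : (2 : k) ≠ 0
  dim : finrank k U = 3
  symm : β.IsSymm
  nondeg : β.Nondegenerate
  inj : Function.Injective ρ
  form : ∀ g u v, β (ρ g u) (ρ g v) = β u v
  odd : Odd (Nat.card X)

variable {β : LinearMap.BilinForm k U} {ρ : Representation k X U}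

theorem Dat.pow_card (g : X) : (ρ g) ^ Nat.card X = 1 := by
  rw [← map_pow, pow_card_eq_one', map_one]

theorem Dat.exists_fixed (D : Dat β ρ) (g : X) : ∃ v : U, v ≠ 0 ∧ ρ g v = v :=
  O3Lin.exists_fixed D.two D.dim D.nondeg (D.form g) D.odd (Dat.pow_card g)

theorem Dat.fixed_unique (D : Dat β ρ) {g : X} (hg : g ≠ 1) {u v : U} (hu : u ≠ 0)
    (hgu : ρ g u = u) (hgv : ρ g v = v) : ∃ c : k, v = c • u := by
  by_contra hcon
  push Not at hcon
  have h := O3Lin.eq_one_of_fixed D.two D.dim D.symm D.nondeg (D.form g) D.odd (Dat.pow_card g) hu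
    hcon hgu hgv
  exact hg (D.inj (by rw [h, map_one]))

theorem Dat.rho_pow {g : X} {n : U} {c : k} (h : ρ g n = c • n) (j : ℕ) :
    ((ρ g) ^ j) n = c ^ j • n := by
  induction j with
  | zero => simp
  | succ j ih => rw [pow_succ', Module.End.mul_apply, ih, map_smul, h, smul_smul, ← pow_succ]

/-- The stabilizer of a nonsingular line fixes it pointwise. -/
theorem Dat.lineStab_le (D : Dat β ρ) {n : U} (hn : β n n ≠ 0) : lineStab ρ n ≤ vecStab ρ n := by
  rintro g ⟨c, hc, hg⟩
  have hn0 : n ≠ 0 := by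
    rintro rfl
    apply hn
    rw [LinearMap.BilinForm.zero_left]
  have h1 : c ^ 2 = 1 := by
    have h2 := D.form g n n
    rw [hg, LinearMap.BilinForm.smul_left, LinearMap.BilinForm.smul_right] at h2
    have h3 : (c ^ 2 - 1) * β n n = 0 := by linear_combination h2
    exact sub_eq_zero.1 ((mul_eq_zero.1 h3).resolve_right hn)
  have h2 : c ^ Nat.card X = 1 := by
    have h3 := Dat.rho_pow hg (Nat.card X)
    rw [Dat.pow_card, Module.End.one_apply] at h3
    have h4 : (c ^ Nat.card X - 1) • n = 0 := by rw [sub_smul, one_smul, ← h3, sub_self]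
    exact sub_eq_zero.1 ((smul_eq_zero.1 h4).resolve_right hn0)
  have h3 : c = 1 := by
    obtain ⟨j, hj⟩ := D.odd
    rw [hj, pow_add, pow_mul, h1, one_pow, one_mul, pow_one] at h2
    exact h2
  rw [mem_vecStab, hg, h3, one_smul]

/-- Decomposition with respect to a hyperbolic pair. -/
theorem Dat.decomp (D : Dat β ρ) {w w' n y : U} (hw : w ≠ 0) (hww : β w w = 0) (hw' : β w' w' = 0)
    (hs : β w w' ≠ 0) (hn : β n n ≠ 0) (hnw : β n w = 0) (hnw' : β n w' = 0) (hny : β n y = 0) :
    y = (β w' y / β w w') • w + (β w y / β w w') • w' := by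
  have hind : ∀ c : k, w' ≠ c • w := by
    rintro c rfl
    apply hs
    rw [LinearMap.BilinForm.smul_right, hww, mul_zero]
  obtain ⟨n', -, -, -, hn'⟩ := O3Lin.exists_normal D.dim D.nondeg hw hind
  obtain ⟨c, hc⟩ := hn' n (by rw [D.symm.eq]; exact hnw) (by rw [D.symm.eq]; exact hnw')
  set z := y - ((β w' y / β w w') • w + (β w y / β w w') • w') with hz
  have hs' : β w' w = β w w' := D.symm.eq w' w
  obtain ⟨d, hd⟩ := hn' z (by
      rw [hz, LinearMap.BilinForm.sub_right, LinearMap.BilinForm.add_right,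
        LinearMap.BilinForm.smul_right, LinearMap.BilinForm.smul_right, hww]
      field_simp
      ring) (by
      rw [hz, LinearMap.BilinForm.sub_right, LinearMap.BilinForm.add_right,
        LinearMap.BilinForm.smul_right, LinearMap.BilinForm.smul_right, hw', hs']
      field_simp
      ring)
  have hnz : β n z = 0 := by
    rw [hz, LinearMap.BilinForm.sub_right, LinearMap.BilinForm.add_right,
      LinearMap.BilinForm.smul_right, LinearMap.BilinForm.smul_right, hny, hnw, hnw']
    ring
  rw [hc, hd, LinearMap.BilinForm.smul_left, LinearMap.BilinForm.smul_right] at hnz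
  rw [hc, LinearMap.BilinForm.smul_left, LinearMap.BilinForm.smul_right] at hn
  have hd0 : d = 0 := by
    by_contra hd0
    apply hn
    rcases mul_eq_zero.1 hnz with h | h
    · rw [h]; ring
    · rw [(mul_eq_zero.1 h).resolve_left hd0]; ring
  rw [hd0, zero_smul] at hd
  exact sub_eq_zero.1 hd

/-- The stabilizer of a nonsingular line fixes the singular lines orthogonal to it. -/
theorem Dat.vecStab_le_lineStab (D : Dat β ρ) {n w : U} (hn : β n n ≠ 0) (hw : w ≠ 0)
    (hww : β w w = 0) (hnw : β n w = 0) : vecStab ρ n ≤ lineStab ρ w := by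
  intro g hg
  rw [mem_vecStab] at hg
  by_cases hs : β w (ρ g w) = 0
  · obtain ⟨c, hc⟩ := O3Lin.mem_span_of_singular D.dim D.symm D.nondeg hw hww
      (by rw [D.form]; exact hww) hs
    exact mem_lineStab' hw hc
  · have hnw' : β n (ρ g w) = 0 := by
      nth_rewrite 1 [← hg]
      rw [D.form]; exact hnw
    have hnw'' : β n (ρ g (ρ g w)) = 0 := by
      nth_rewrite 1 [← hg]
      rw [D.form]; exact hnw'
    have hw' : β (ρ g w) (ρ g w) = 0 := by rw [D.form]; exact hww
    have hdec := D.decomp hw hww hw' hs hn hnw hnw' hnw''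
    set a := β (ρ g w) (ρ g (ρ g w)) / β w (ρ g w) with ha
    set b := β w (ρ g (ρ g w)) / β w (ρ g w) with hb
    have hsing : β (ρ g (ρ g w)) (ρ g (ρ g w)) = 0 := by rw [D.form]; exact hw'
    have hab : a * b = 0 := by
      rw [hdec] at hsing
      simp only [LinearMap.BilinForm.add_left, LinearMap.BilinForm.add_right,
        LinearMap.BilinForm.smul_left, LinearMap.BilinForm.smul_right, hww, hw',
        D.symm.eq (ρ g w) w] at hsing
      have h3 : (a * b) * (2 * β w (ρ g w)) = 0 := by linear_combination hsing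
      exact (mul_eq_zero.1 h3).resolve_right (mul_ne_zero D.two hs)
    rcases mul_eq_zero.1 hab with h | h
    · -- `g` fixes the line of `g w`, so the line of `w`
      rw [h, zero_smul, zero_add] at hdec
      have h4 : g ∈ lineStab ρ (ρ g w) := mem_lineStab' (rho_ne_zero ρ g hw) hdec
      rw [mem_lineStab_conj] at h4
      have h5 : g⁻¹ * g * g = g := by group
      rwa [h5] at h4
    · rw [h, zero_smul, add_zero] at hdec
      apply mem_of_sq_mem D.odd
      refine mem_lineStab' hw (c := a) ?_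
      rw [map_mul, Module.End.mul_apply]
      exact hdec

/-- The stabilizer of a singular line is disjoint from its other conjugates. -/
theorem Dat.lineStab_TI (D : Dat β ρ) {w : U} (hw : w ≠ 0) (hww : β w w = 0) (h t : X)
    (ht1 : t ≠ 1) (ht : t ∈ lineStab ρ w) (hth : h⁻¹ * t * h ∈ lineStab ρ w) :
    h ∈ lineStab ρ w := by
  classical
  by_contra hh
  set w₁ := ρ h w with hw₁
  have hw₁0 : w₁ ≠ 0 := rho_ne_zero ρ h hw
  have hww₁ : β w₁ w₁ = 0 := by rw [hw₁, D.form]; exact hww
  have hs : β w w₁ ≠ 0 := by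
    intro hs
    obtain ⟨c, hc⟩ := O3Lin.mem_span_of_singular D.dim D.symm D.nondeg hw hww hww₁ hs
    exact hh (mem_lineStab' hw hc)
  rw [← mem_lineStab_conj] at hth
  obtain ⟨a, ha0, ha⟩ := ht
  obtain ⟨b, hb0, hb⟩ := hth
  rw [← hw₁] at hb
  have hab : a * b = 1 := by
    have h1 := D.form t w w₁
    rw [ha, hb, LinearMap.BilinForm.smul_left, LinearMap.BilinForm.smul_right] at h1
    have h2 : (a * b - 1) * β w w₁ = 0 := by linear_combination h1
    exact sub_eq_zero.1 ((mul_eq_zero.1 h2).resolve_right hs)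
  have ha1 : a ≠ 1 := by
    rintro rfl
    rw [one_mul] at hab
    rw [hab, one_smul] at hb
    rw [one_smul] at ha
    obtain ⟨c, hc⟩ := D.fixed_unique ht1 hw ha hb
    apply hs
    rw [hc, LinearMap.BilinForm.smul_right, hww, mul_zero]
  have hb1 : b ≠ 1 := by
    rintro rfl
    rw [mul_one] at hab
    exact ha1 hab
  obtain ⟨n, hn0, hn⟩ := D.exists_fixed t
  have hnw : β n w = 0 := by
    have h1 := D.form t n w
    rw [hn, ha, LinearMap.BilinForm.smul_right] at h1
    have h2 : (a - 1) * β n w = 0 := by linear_combination h1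
    exact (mul_eq_zero.1 h2).resolve_left (sub_ne_zero.2 ha1)
  have hnw₁ : β n w₁ = 0 := by
    have h1 := D.form t n w₁
    rw [hn, hb, LinearMap.BilinForm.smul_right] at h1
    have h2 : (b - 1) * β n w₁ = 0 := by linear_combination h1
    exact (mul_eq_zero.1 h2).resolve_left (sub_ne_zero.2 hb1)
  have hnn : β n n ≠ 0 := by
    intro hnn
    obtain ⟨c, hc⟩ := O3Lin.mem_span_of_singular D.dim D.symm D.nondeg hw hww hnn
      (by rw [D.symm.eq]; exact hnw)
    rw [hc, LinearMap.BilinForm.smul_left] at hnw₁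
    rcases mul_eq_zero.1 hnw₁ with h1 | h1
    · rw [h1, zero_smul] at hc
      exact hn0 hc
    · exact hs h1
  -- `T` is the stabilizer of `n`
  set T := vecStab ρ n with hT
  have hTw : T ≤ lineStab ρ w := D.vecStab_le_lineStab hnn hw hww hnw
  have hTw₁ : T ≤ lineStab ρ w₁ := D.vecStab_le_lineStab hnn hw₁0 hww₁ hnw₁
  have htT : t ∈ T := hn
  -- a Sylow subgroup of `T`
  have hcard : Nat.card T ≠ 1 := by
    intro h1
    rw [Subgroup.card_eq_one] at h1
    rw [h1] at htT
    exact ht1 (Subgroup.mem_bot.1 htT)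
  obtain ⟨r, hr, hrT⟩ := Nat.exists_prime_and_dvd hcard
  have : Fact r.Prime := ⟨hr⟩
  let S : Sylow r T := default
  set R := (S : Subgroup T).map T.subtype with hR
  have hRT : R ≤ T := Subgroup.map_subtype_le _
  have hRne : ∃ y ∈ R, y ≠ 1 := by
    by_contra hcon
    push Not at hcon
    have h1 : (S : Subgroup T) = ⊥ := by
      rw [eq_bot_iff]
      intro y hy
      rw [Subgroup.mem_bot]
      exact Subtype.ext (hcon y ⟨y, hy, rfl⟩)
    have h2 := S.dvd_card_of_dvd_card hrT
    rw [h1, Subgroup.card_bot] at h2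
    exact hr.one_lt.ne' (Nat.dvd_one.1 h2)
  obtain ⟨r₁, hr₁R, hr₁⟩ := hRne
  have hNR : Subgroup.normalizer (R : Set X) ≤ T := by
    intro y hy
    have h1 : y⁻¹ * r₁ * y ∈ R := by
      have h2 := (Subgroup.mem_normalizer_iff.1 (inv_mem hy) r₁).1 hr₁R
      rwa [inv_inv] at h2
    have h2 : r₁ ∈ vecStab ρ (ρ y n) := mem_vecStab_conj.2 (hRT h1)
    obtain ⟨c, hc⟩ := D.fixed_unique hr₁ hn0 (hRT hr₁R) h2
    exact D.lineStab_le hnn (mem_lineStab' hn0 hc)
  have hRS : ∀ B : Subgroup X, T ≤ B → ∃ S : Sylow r B, (S : Subgroup B).map B.subtype = R := by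
    intro B hB
    rw [Blocks.SylowIn.exists_sylow_map_eq_iff]
    refine ⟨hRT.trans hB, S.isPGroup'.map _, ?_⟩
    intro Q hQB hQ hRQ
    apply Blocks.SylowIn.eq_of_normalizer_inf_le hQ hRQ
    have hmax := (Blocks.SylowIn.exists_sylow_map_eq_iff.1 ⟨S, hR.symm⟩).2.2
    exact (hmax (Subgroup.normalizer (R : Set X) ⊓ Q) (inf_le_left.trans hNR)
      (hQ.to_le inf_le_right) (le_inf Subgroup.le_normalizer hRQ)).le
  -- `h⁻¹ R h` is a Sylow subgroup of `lineStab w`
  set R' := R.map (MulAut.conj h⁻¹).toMonoidHom with hR'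
  have hR'N : R' ≤ lineStab ρ w := by
    rintro _ ⟨y, hy, rfl⟩
    show h⁻¹ * y * h⁻¹⁻¹ ∈ lineStab ρ w
    rw [inv_inv, ← mem_lineStab_conj]
    exact hTw₁ (hRT hy)
  have hR'S : ∃ S : Sylow r (lineStab ρ w),
      (S : Subgroup (lineStab ρ w)).map (lineStab ρ w).subtype = R' := by
    apply Blocks.SylowIn.exists_sylow_map_eq_of_card hR'N
    rw [← Blocks.SylowIn.card_of_sylow_map_eq (hRS _ hTw), hR']
    exact Subgroup.card_map_of_injective (MulAut.conj h⁻¹).injective
  obtain ⟨m, hm, hmR⟩ := Blocks.SylowIn.exists_conj_of_sylow_map_eq hR'S (hRS _ hTw)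
  have hmh : m * h⁻¹ ∈ Subgroup.normalizer (R : Set X) := by
    have h1 : R.map (MulAut.conj (m * h⁻¹)).toMonoidHom = R := by
      rw [hR', Subgroup.map_map] at hmR
      have h2 : (MulAut.conj (m * h⁻¹)).toMonoidHom =
          (MulAut.conj m).toMonoidHom.comp (MulAut.conj h⁻¹).toMonoidHom := by
        ext y
        simp [mul_assoc]
      rw [h2]
      exact hmR
    rw [Subgroup.mem_normalizer_iff]
    intro y
    constructor
    · intro hy
      rw [← h1]
      exact ⟨y, hy, rfl⟩
    · intro hy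
      rw [← h1] at hy
      obtain ⟨z, hz, hzy⟩ := hy
      have h2 : z = y := (MulAut.conj (m * h⁻¹)).injective hzy
      rwa [← h2]
  have h1 : m * h⁻¹ ∈ lineStab ρ w := hTw (hNR hmh)
  have h2 : h⁻¹ ∈ lineStab ρ w := (Subgroup.mul_mem_cancel_left _ hm).1 h1
  exact hh (by simpa using inv_mem h2)

theorem normal_of_orthogonal_three (p : ℕ) [Fact p.Prime] [CharP k p] (hp2 : p ≠ 2)
    (hU : Module.finrank k U = 3) (β : LinearMap.BilinForm k U) (hsymm : β.IsSymm)
    (hnd : β.Nondegenerate) (ρ : Representation k X U) (hρ : Function.Injective ρ)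
    (hβ : ∀ g u v, β (ρ g u) (ρ g v) = β u v) (hodd : Odd (Nat.card X))
    (P : Sylow p X) (hP : Nat.card P = p) : (P : Subgroup X).Normal := by
  have hp : p.Prime := Fact.out
  have h2 : (2 : k) ≠ 0 := by
    intro h
    have h1 : ((2 : ℕ) : k) = 0 := by exact_mod_cast h
    rw [CharP.cast_eq_zero_iff k p] at h1
    exact hp2 ((Nat.prime_dvd_prime_iff_eq hp Nat.prime_two).1 h1)
  have D : Dat β ρ := ⟨h2, hU, hsymm, hnd, hρ, hβ, hodd⟩
  have hPpos : 1 < Nat.card P := by rw [hP]; exact hp.one_lt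
  have hnt : Nontrivial (P : Subgroup X) := Finite.one_lt_card_iff_nontrivial.1 hPpos
  obtain ⟨⟨x, hxP⟩, hx1⟩ := exists_ne (1 : (P : Subgroup X))
  have hx1' : x ≠ 1 := fun h => hx1 (Subtype.ext h)
  have hxp : orderOf x = p := by
    have h3 : orderOf (⟨x, hxP⟩ : (P : Subgroup X)) ∣ p :=
      (orderOf_dvd_natCard _).trans hP.dvd
    rw [Subgroup.orderOf_mk] at h3
    rcases (Nat.dvd_prime hp).1 h3 with h4 | h4
    · exact absurd (orderOf_eq_one_iff.1 h4) hx1'
    · exact h4
  have hPz : Subgroup.zpowers x = (P : Subgroup X) := by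
    apply Subgroup.eq_of_le_of_card_ge
    · exact Subgroup.zpowers_le.2 hxP
    · rw [Nat.card_zpowers, hxp]; exact hP.le
  obtain ⟨w, hw0, hw⟩ := D.exists_fixed x
  have hxpow : (ρ x) ^ p = 1 := by rw [← map_pow, ← hxp, pow_orderOf_eq_one, map_one]
  have hww : β w w = 0 := O3Lin.singular_of_pow_eq_one hU hnd (hβ x) hxpow hw0 hw
    (fun v hv => D.fixed_unique hx1' hw0 hw hv)
  -- stabilizers of singular vectors are `p`-groups
  have hpgrp : ∀ v : U, v ≠ 0 → β v v = 0 → IsPGroup p (vecStab ρ v) := by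
    intro v hv hvv
    rw [IsPGroup.iff_orderOf]
    rintro ⟨g, hg⟩
    have h3 : (ρ g) ^ p = 1 :=
      O3Lin.pow_eq_one_of_singular hp2 hU hsymm hnd (hβ g) hodd (Dat.pow_card g) hv hvv hg
    have h4 : g ^ p = 1 := by
      apply hρ
      rw [map_pow, h3, map_one]
    have h5 : orderOf (⟨g, hg⟩ : vecStab ρ v) ∣ p := by
      rw [Subgroup.orderOf_mk]
      exact orderOf_dvd_of_pow_eq_one h4
    rcases (Nat.dvd_prime hp).1 h5 with h6 | h6
    · exact ⟨0, by rw [h6, pow_zero]⟩
    · exact ⟨1, by rw [h6, pow_one]⟩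
  have hPw : (P : Subgroup X) ≤ vecStab ρ w := by
    rw [← hPz, Subgroup.zpowers_le]
    exact hw
  have hPeq : vecStab ρ w = (P : Subgroup X) := P.is_maximal' (hpgrp w hw0 hww) hPw
  -- the normalizer of `P`
  have hNle : lineStab ρ w ≤ Subgroup.normalizer ((P : Subgroup X) : Set X) := by
    have key : ∀ g ∈ lineStab ρ w, ∀ y ∈ vecStab ρ w, g * y * g⁻¹ ∈ vecStab ρ w := by
      intro g hg y hy
      obtain ⟨c, hc, hgc⟩ := inv_mem hg
      rw [mem_vecStab, map_mul, map_mul, Module.End.mul_apply, Module.End.mul_apply, hgc, map_smul,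
        show ρ y w = w from hy, ← hgc, ← Module.End.mul_apply, ← map_mul, mul_inv_cancel, map_one,
        Module.End.one_apply]
    intro g hg
    rw [Subgroup.mem_normalizer_iff]
    intro y
    rw [← hPeq]
    refine ⟨key g hg y, fun hy => ?_⟩
    have h3 := key g⁻¹ (inv_mem hg) _ hy
    have h4 : g⁻¹ * (g * y * g⁻¹) * g⁻¹⁻¹ = y := by group
    rwa [h4] at h3
  by_cases htop : lineStab ρ w = ⊤
  · rw [htop] at hNle
    exact Subgroup.normalizer_eq_top_iff.1 (top_le_iff.1 hNle)
  exfalso
  -- an element in no conjugate of `N`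
  obtain ⟨g, hg⟩ := exists_not_conj (lineStab ρ w) htop
  have hg1 : g ≠ 1 := by
    rintro rfl
    exact hg 1 (by simp)
  obtain ⟨n, hn0, hn⟩ := D.exists_fixed g
  have hnn : β n n ≠ 0 := by
    intro hnn
    obtain ⟨Q, hQ⟩ := (hpgrp n hn0 hnn).exists_le_sylow
    obtain ⟨h, hh⟩ := MulAction.exists_smul_eq X P Q
    have hgQ : g ∈ (Q : Subgroup X) := hQ hn
    rw [← hh, Sylow.coe_subgroup_smul, Subgroup.mem_pointwise_smul_iff_inv_smul_mem] at hgQ
    apply hg h
    have h3 : h⁻¹ * g * h ∈ (P : Subgroup X) := by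
      simpa [MulAut.smul_def, MulAut.conj_apply, MulAut.conj_inv_apply] using hgQ
    rw [← hPeq] at h3
    exact vecStab_le ρ w h3
  have hgT : g ∈ vecStab ρ n := hn
  refine false_of_two (lineStab ρ w) (vecStab ρ n) (D.lineStab_TI hw0 hww) ?_ ?_ ?_ ?_
  · -- the stabilizer of `n` is disjoint from its conjugates
    intro h t ht1 ht hth
    rw [← mem_vecStab_conj] at hth
    obtain ⟨c, hc⟩ := D.fixed_unique ht1 hn0 ht hth
    exact D.lineStab_le hnn (mem_lineStab' hn0 hc)
  · -- and from the conjugates of `N`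
    intro h t ht1 ht hth
    rw [← mem_lineStab_conj] at hth
    obtain ⟨c, hc0, hc⟩ := hth
    set w₂ := ρ h w with hw₂
    have hw₂0 : w₂ ≠ 0 := rho_ne_zero ρ h hw0
    have hww₂ : β w₂ w₂ = 0 := by rw [hw₂, hβ]; exact hww
    have hnw₂ : β n w₂ = 0 := by
      by_cases hc1 : c = 1
      · rw [hc1, one_smul] at hc
        obtain ⟨d, hd⟩ := D.fixed_unique ht1 hn0 ht hc
        exfalso
        rw [hd, LinearMap.BilinForm.smul_left, LinearMap.BilinForm.smul_right] at hww₂
        have hd0 : d = 0 := by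
          rcases mul_eq_zero.1 hww₂ with h3 | h3
          · exact h3
          · exact (mul_eq_zero.1 h3).resolve_right hnn
        rw [hd0, zero_smul] at hd
        exact hw₂0 hd
      · have h3 := hβ t n w₂
        rw [show ρ t n = n from ht, hc, LinearMap.BilinForm.smul_right] at h3
        have h4 : (c - 1) * β n w₂ = 0 := by linear_combination h3
        exact (mul_eq_zero.1 h4).resolve_left (sub_ne_zero.2 hc1)
    have h3 := D.vecStab_le_lineStab hnn hw₂0 hww₂ hnw₂ hgT
    rw [mem_lineStab_conj] at h3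
    exact hg h h3
  · -- `3 ≤ |N|`
    have h3 : Nat.card P ≤ Nat.card (lineStab ρ w) := by
      refine Nat.card_le_card_of_injective (Subgroup.inclusion (hPw.trans (vecStab_le ρ w)))
        (Subgroup.inclusion_injective _)
    rw [hP] at h3
    have h4 := hp.two_le
    omega
  · -- `3 ≤ |T|`
    have h3 : Odd (Nat.card (vecStab ρ n)) := hodd.of_dvd_nat (Subgroup.card_subgroup_dvd_card _)
    have h4 : Nat.card (vecStab ρ n) ≠ 1 := by
      intro h5
      rw [Subgroup.card_eq_one] at h5
      rw [h5] at hgT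
      exact hg1 (Subgroup.mem_bot.1 hgT)
    obtain ⟨m, hm⟩ := h3
    omega

end main

end Cfsg.Agent.LieRecognition.FT61.O3
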