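import Mathlib

/-!
FT61-B1: a nilpotent endomorphism `ν` of a finite dimensional space in characteristic different
from two is a double bracket `[ν, [ν, z]]`.
-/

namespace Cfsg.Agent.LieRecognition.FT61.Nil

open Finset

/-- Summation by parts. -/
private lemma sum_parts {k M : Type*} [CommRing k] [AddCommGroup M] [Module k M] (b : k)
    (F : ℕ → M) (n : ℕ) :
    ∑ i ∈ range n, (((i : k) + 1) * (b + 1 - i)) • (F (i + 2) - (2 : k) • F (i + 1) + F i) =
      (b + 1) • F 0 - (2 : k) • ∑ i ∈ range n, F (i + 1) - (((n : k) + 1) * (b + 1 - n)) • F n +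
        ((n : k) * (b + 2 - n)) • F (n + 1) := by
  induction n with
  | zero => simp
  | succ n ih =>
    rw [sum_range_succ, ih, sum_range_succ]
    push_cast
    module

/-- A nilpotent endomorphism: the vectors `ν ^ i u`, `i < a`, are linearly independent. -/
private lemma linInd {k V : Type*} [Field k] [AddCommGroup V] [Module k V] (ν : Module.End k V)
    (a : ℕ) (ha : ν ^ a = 0) (u : V) (hu : (ν ^ (a - 1)) u ≠ 0) :
    LinearIndependent k (fun i : Fin a => (ν ^ (i : ℕ)) u) := by
  rw [Fintype.linearIndependent_iff]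
  intro g hg
  by_contra hcon
  push Not at hcon
  classical
  obtain ⟨i₀, hi₀, hmin⟩ : ∃ i₀ : Fin a, g i₀ ≠ 0 ∧ ∀ j : Fin a, j < i₀ → g j = 0 := by
    have hne : (univ.filter (fun i : Fin a => g i ≠ 0)).Nonempty := by
      obtain ⟨i, hi⟩ := hcon
      exact ⟨i, by simpa using hi⟩
    refine ⟨(univ.filter (fun i : Fin a => g i ≠ 0)).min' hne, ?_, ?_⟩
    · have := (univ.filter (fun i : Fin a => g i ≠ 0)).min'_mem hne
      simpa using this
    · intro j hj
      by_contra hgj
      have := (univ.filter (fun i : Fin a => g i ≠ 0)).min'_le j (by simpa using hgj)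
      exact absurd hj (not_lt.mpr this)
  have h1 : (ν ^ (a - 1 - (i₀ : ℕ))) (∑ i : Fin a, g i • (ν ^ (i : ℕ)) u) = 0 := by
    rw [hg, map_zero]
  rw [map_sum, Finset.sum_eq_single i₀] at h1
  · rw [map_smul, ← Module.End.mul_apply, ← pow_add] at h1
    have h2 : a - 1 - (i₀ : ℕ) + (i₀ : ℕ) = a - 1 := by
      have := i₀.isLt
      omega
    rw [h2] at h1
    rcases smul_eq_zero.mp h1 with h3 | h3
    · exact hi₀ h3
    · exact hu h3
  · intro j _ hj
    rw [map_smul, ← Module.End.mul_apply, ← pow_add]
    rcases lt_or_gt_of_ne hj with h3 | h3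
    · rw [hmin j h3, zero_smul]
    · have h4 : a ≤ a - 1 - (i₀ : ℕ) + (j : ℕ) := by
        have := i₀.isLt
        have h5 : (i₀ : ℕ) < (j : ℕ) := h3
        omega
      rw [pow_eq_zero_of_le h4 ha]
      simp
  · intro h
    exact absurd (mem_univ i₀) h

/-- A functional dual to the vectors `ν ^ i u`. -/
private lemma exists_functional {k V : Type*} [Field k] [AddCommGroup V] [Module k V]
    (ν : Module.End k V) (a : ℕ) (ha : ν ^ a = 0) (u : V) (hu : (ν ^ (a - 1)) u ≠ 0) :
    ∃ ψ : Module.Dual k V, ∀ i < a, ψ ((ν ^ i) u) = if i = a - 1 then 1 else 0 := by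
  have hli := linInd ν a ha u hu
  obtain ⟨ψ, hψ⟩ : ∃ ψ : Module.Dual k V, ∀ i : Fin a, ψ ((ν ^ (i : ℕ)) u) =
      if (i : ℕ) = a - 1 then 1 else 0 := by
    obtain ⟨ψ, hψ⟩ := LinearMap.exists_extend (p := Submodule.span k
      (Set.range (fun i : Fin a => (ν ^ (i : ℕ)) u)))
      ((Finsupp.lift k k (Fin a) (fun i => if (i : ℕ) = a - 1 then 1 else 0)) ∘ₗ
        (hli.repr : _ →ₗ[k] _))
    refine ⟨ψ, fun i => ?_⟩
    have h1 : ψ ((ν ^ (i : ℕ)) u) = (ψ ∘ₗ Submodule.subtype _)
        (⟨(ν ^ (i : ℕ)) u, Submodule.subset_span ⟨i, rfl⟩⟩ : Submodule.span k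
          (Set.range (fun i : Fin a => (ν ^ (i : ℕ)) u))) := rfl
    rw [h1, hψ, LinearMap.comp_apply]
    have h2 := hli.repr_eq_single i ⟨(ν ^ (i : ℕ)) u, Submodule.subset_span ⟨i, rfl⟩⟩ rfl
    rw [h2]
    simp
  exact ⟨ψ, fun i hi => hψ ⟨i, hi⟩⟩

/-- The rank one operators `v ↦ ψ (ν ^ j v) • ν ^ i u`. -/
private def E {k V : Type*} [Field k] [AddCommGroup V] [Module k V] (ν : Module.End k V)
    (u : V) (ψ : Module.Dual k V) (i j : ℕ) : Module.End k V :=
  LinearMap.smulRight (ψ ∘ₗ (ν ^ j)) ((ν ^ i) u)

private lemma E_apply {k V : Type*} [Field k] [AddCommGroup V] [Module k V] (ν : Module.End k V)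
    (u : V) (ψ : Module.Dual k V) (i j : ℕ) (v : V) :
    E ν u ψ i j v = ψ ((ν ^ j) v) • (ν ^ i) u := rfl

private lemma mul_E {k V : Type*} [Field k] [AddCommGroup V] [Module k V] (ν : Module.End k V)
    (u : V) (ψ : Module.Dual k V) (i j : ℕ) : ν * E ν u ψ i j = E ν u ψ (i + 1) j := by
  ext v
  rw [Module.End.mul_apply, E_apply, E_apply, map_smul, pow_succ' ν i, Module.End.mul_apply]

private lemma E_mul {k V : Type*} [Field k] [AddCommGroup V] [Module k V] (ν : Module.End k V)
    (u : V) (ψ : Module.Dual k V) (i j : ℕ) : E ν u ψ i j * ν = E ν u ψ i (j + 1) := by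
  ext v
  rw [Module.End.mul_apply, E_apply, E_apply, pow_succ ν j, Module.End.mul_apply]

private lemma main {k : Type*} [Field k] (h2 : (2 : k) ≠ 0) (n : ℕ) :
    ∀ (V : Type*) [AddCommGroup V] [Module k V] [FiniteDimensional k V] (ν : Module.End k V),
      Module.finrank k V ≤ n → IsNilpotent ν →
      ∃ z : Module.End k V, ν * (ν * z - z * ν) - (ν * z - z * ν) * ν = ν := by
  induction n with
  | zero =>
    intro V _ _ _ ν hn _
    have h0 : Module.finrank k V = 0 := by omega
    have := Module.finrank_zero_iff.mp h0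
    refine ⟨0, ?_⟩
    ext v
    exact Subsingleton.elim _ _
  | succ n ih =>
    intro V _ _ _ ν hn hν
    by_cases hν0 : ν = 0
    · exact ⟨0, by simp [hν0]⟩
    obtain ⟨b, hb, hb'⟩ : ∃ b : ℕ, ν ^ (b + 2) = 0 ∧ ν ^ (b + 1) ≠ 0 := by
      classical
      have hex : ∃ a, ν ^ a = 0 := hν
      have h1 := Nat.find_spec hex
      have h3 : 2 ≤ Nat.find hex := by
        by_contra hlt
        push Not at hlt
        have h4 : Nat.find hex ≤ 1 := by omega
        have h5 : ν ^ 1 = 0 := pow_eq_zero_of_le h4 h1
        rw [pow_one] at h5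
        exact hν0 h5
      refine ⟨Nat.find hex - 2, ?_, ?_⟩
      · rw [Nat.sub_add_cancel h3]; exact h1
      · have h6 : Nat.find hex - 2 + 1 < Nat.find hex := by omega
        exact Nat.find_min hex h6
    obtain ⟨u, hu⟩ : ∃ u, (ν ^ (b + 1)) u ≠ 0 := by
      by_contra hcon
      push Not at hcon
      exact hb' (LinearMap.ext hcon)
    obtain ⟨ψ, hψ⟩ := exists_functional ν (b + 2) hb u (by simpa using hu)
    have hψ' : ∀ i, ψ ((ν ^ i) u) = if i = b + 1 then 1 else 0 := by
      intro i
      rcases lt_or_ge i (b + 2) with hi | hi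
      · rw [hψ i hi]
        congr 1
      · rw [pow_eq_zero_of_le hi hb, if_neg (by omega)]
        simp
    -- the idempotent
    set P : Module.End k V := ∑ i ∈ range (b + 2), E ν u ψ i (b + 1 - i) with hPdef
    set F : ℕ → Module.End k V := fun m => E ν u ψ m (b + 2 - m) with hFdef
    have hF0 : F 0 = 0 := by
      ext v
      simp only [hFdef, E_apply, Nat.sub_zero, hb]
      simp
    have hFb : F (b + 2) = 0 := by
      ext v
      simp only [hFdef, E_apply, hb]
      simp
    have hνP : ν * P = ∑ i ∈ range (b + 1), F (i + 1) := by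
      rw [hPdef, Finset.mul_sum]
      simp_rw [mul_E]
      rw [sum_range_succ]
      have h1 : E ν u ψ (b + 1 + 1) (b + 1 - (b + 1)) = 0 := by
        ext v
        simp only [E_apply]
        rw [show b + 1 + 1 = b + 2 from rfl, hb]
        simp
      rw [h1, add_zero]
      refine sum_congr rfl fun i hi => ?_
      simp only [hFdef]
      congr 1
      omega
    have hPν : P * ν = ∑ i ∈ range (b + 1), F (i + 1) := by
      rw [hPdef, Finset.sum_mul]
      simp_rw [E_mul]
      rw [sum_range_succ']
      have h1 : E ν u ψ 0 (b + 1 - 0 + 1) = 0 := by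
        ext v
        simp only [E_apply]
        rw [show b + 1 - 0 + 1 = b + 2 from rfl, hb]
        simp
      rw [h1, add_zero]
      refine sum_congr rfl fun i hi => ?_
      simp only [hFdef]
      have := mem_range.mp hi
      congr 1
      omega
    have hcomm : ν * P = P * ν := by rw [hνP, hPν]
    have hPapp : ∀ m, P ((ν ^ m) u) = (ν ^ m) u := by
      intro m
      rcases lt_or_ge m (b + 2) with hm | hm
      · rw [hPdef, LinearMap.sum_apply, sum_eq_single m]
        · rw [E_apply, ← Module.End.mul_apply, ← pow_add,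
            show b + 1 - m + m = b + 1 by omega, hψ' (b + 1), if_pos rfl, one_smul]
        · intro i hi him
          have := mem_range.mp hi
          rw [E_apply, ← Module.End.mul_apply, ← pow_add, hψ', if_neg (by omega), zero_smul]
        · intro h
          exact absurd (mem_range.mpr hm) h
      · rw [pow_eq_zero_of_le hm hb]
        simp
    have hPP : P * P = P := by
      ext v
      rw [Module.End.mul_apply]
      conv_lhs => rw [hPdef]
      rw [← hPdef]
      conv_lhs => arg 2; rw [hPdef, LinearMap.sum_apply]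
      rw [map_sum]
      conv_rhs => rw [hPdef, LinearMap.sum_apply]
      refine sum_congr rfl fun i hi => ?_
      rw [E_apply, map_smul, hPapp]
    have hPu : P u ≠ 0 := by
      have h1 := hPapp 0
      rw [pow_zero, Module.End.one_apply] at h1
      rw [h1]
      rintro rfl
      exact hu (map_zero _)
    -- the double bracket of `z₁`
    set z₁ : Module.End k V := (-(1 / 2 : k)) •
      ∑ i ∈ range (b + 1), (((i : k) + 1) * ((b : k) + 1 - i)) • E ν u ψ i (b - i) with hz₁
    have hz₁' : ν * (ν * z₁ - z₁ * ν) - (ν * z₁ - z₁ * ν) * ν = ν * P := by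
      have h3 : ν * (ν * z₁ - z₁ * ν) - (ν * z₁ - z₁ * ν) * ν = (-(1 / 2 : k)) •
          ∑ i ∈ range (b + 1), (((i : k) + 1) * ((b : k) + 1 - i)) •
            (F (i + 2) - (2 : k) • F (i + 1) + F i) := by
        have h4 : ν * (ν * z₁ - z₁ * ν) - (ν * z₁ - z₁ * ν) * ν =
            ν * (ν * z₁) - (2 : k) • (ν * (z₁ * ν)) + (z₁ * ν) * ν := by
          rw [two_smul]
          noncomm_ring
        rw [h4, hz₁]
        simp only [smul_mul_assoc, mul_smul_comm, Finset.mul_sum, Finset.sum_mul, mul_E, E_mul]
        rw [smul_comm (2 : k), ← smul_sub, ← smul_add, Finset.smul_sum, ← sum_sub_distrib,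
          ← sum_add_distrib]
        congr 1
        refine sum_congr rfl fun i hi => ?_
        have := mem_range.mp hi
        rw [smul_comm (2 : k), ← smul_sub, ← smul_add]
        congr 1
        simp only [hFdef]
        rw [show i + 1 + 1 = i + 2 from rfl, show b + 2 - (i + 2) = b - i by omega,
          show b + 2 - (i + 1) = b - i + 1 by omega, show b + 2 - i = b - i + 1 + 1 by omega]
      rw [h3, sum_parts (b : k) F (b + 1), hF0, hFb, hνP]
      push_cast
      have h5 : ((b : k) + 1 - ((b : k) + 1)) = 0 := by ring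
      rw [h5]
      simp only [mul_zero, zero_smul, smul_zero, zero_sub, sub_zero, add_zero]
      rw [smul_neg, neg_smul, neg_neg, smul_smul]
      rw [show (1 / 2 : k) * 2 = 1 by field_simp, one_smul]
    -- the restriction to the kernel
    set K : Submodule k V := LinearMap.ker P with hK
    have hνK : ∀ v ∈ K, ν v ∈ K := by
      intro v hv
      rw [hK, LinearMap.mem_ker] at hv ⊢
      have := congrArg (fun f : Module.End k V => f v) hcomm
      simp only [Module.End.mul_apply] at this
      rw [← this, hv, map_zero]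
    set ν' : Module.End k K := ν.restrict hνK with hν'
    have hlt : Module.finrank k K ≤ n := by
      have h6 : K < ⊤ := by
        rw [lt_top_iff_ne_top]
        intro htop
        have : u ∈ K := by rw [htop]; trivial
        exact hPu this
      have h7 := Submodule.finrank_lt (lt_top_iff_ne_top.mp h6)
      omega
    have hnil : IsNilpotent ν' := by
      refine ⟨b + 2, ?_⟩
      rw [hν', Module.End.pow_restrict]
      ext v
      simp [hb]
    obtain ⟨z', hz'⟩ := ih K ν' hlt hnil
    have hQmem : ∀ v : V, v - P v ∈ K := by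
      intro v
      rw [hK, LinearMap.mem_ker, map_sub]
      have := congrArg (fun f : Module.End k V => f v) hPP
      simp only [Module.End.mul_apply] at this
      rw [this, sub_self]
    set π : V →ₗ[k] K := LinearMap.codRestrict K (LinearMap.id - P) (by simpa using hQmem) with hπ
    set z₂ : Module.End k V := K.subtype ∘ₗ z' ∘ₗ π with hz₂
    have hπν : ∀ v, π (ν v) = ν' (π v) := by
      intro v
      apply Subtype.ext
      have := congrArg (fun f : Module.End k V => f v) hcomm
      simp only [Module.End.mul_apply] at this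
      simp [hπ, hν', LinearMap.restrict_apply, ← this]
    have hνs : ∀ w : K, ν (w : V) = (ν' w : V) := fun w => by
      simp [hν', LinearMap.restrict_apply]
    have hz₂' : ν * (ν * z₂ - z₂ * ν) - (ν * z₂ - z₂ * ν) * ν = ν * (1 - P) := by
      ext v
      have h8 := congrArg (fun f : Module.End k K => ((f (π v) : K) : V)) hz'
      simp only [Module.End.mul_apply, LinearMap.sub_apply, hz₂, LinearMap.comp_apply,
        Submodule.subtype_apply, hπν, map_sub, Submodule.coe_sub, hνs, Module.End.one_apply]
        at h8 ⊢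
      rw [h8, ← hνs]
      simp [hπ]
    refine ⟨z₁ + z₂, ?_⟩
    have h9 : ν * (ν * (z₁ + z₂) - (z₁ + z₂) * ν) - (ν * (z₁ + z₂) - (z₁ + z₂) * ν) * ν =
        (ν * (ν * z₁ - z₁ * ν) - (ν * z₁ - z₁ * ν) * ν) +
          (ν * (ν * z₂ - z₂ * ν) - (ν * z₂ - z₂ * ν) * ν) := by noncomm_ring
    rw [h9, hz₁', hz₂']
    noncomm_ring

theorem exists_double_bracket {k V : Type*} [Field k] [AddCommGroup V] [Module k V]
    [FiniteDimensional k V] (h2 : (2 : k) ≠ 0) (ν : Module.End k V) (hν : IsNilpotent ν) :
    ∃ z : Module.End k V, ν * (ν * z - z * ν) - (ν * z - z * ν) * ν = ν :=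
  main h2 _ V ν le_rfl hν

end Cfsg.Agent.LieRecognition.FT61.Nil
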