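import Mathlib

/-!
# The trace of a cubic element against a nilpotent endomorphism (FT61-B2)
-/

set_option autoImplicit false

open Polynomial Module

namespace Cfsg.Agent.LieRecognition.FT61.Nil2

section identity

variable {A : Type*} [CommRing A]

/-- `∑ (i+1) x^i y^(n-i)` -/
def hSum (x y : A) (n : ℕ) : A := ∑ i ∈ Finset.range (n + 1), ((i : A) + 1) * x ^ i * y ^ (n - i)

/-- `∑ (i+1)(n+1-i) x^i y^(n-i)` -/
def sSum (x y : A) (n : ℕ) : A :=
  ∑ i ∈ Finset.range (n + 1), ((i : A) + 1) * ((n : A) + 1 - i) * x ^ i * y ^ (n - i)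

theorem hSum_succ (x y : A) (n : ℕ) : hSum x y (n + 1) = y * hSum x y n + ((n : A) + 2) * x ^ (n + 1) := by
  unfold hSum
  rw [Finset.sum_range_succ, Finset.mul_sum]
  congr 1
  · refine Finset.sum_congr rfl fun i hi => ?_
    have : n + 1 - i = (n - i) + 1 := by
      have := Finset.mem_range.1 hi; omega
    rw [this, pow_succ]; ring
  · push_cast; simp; ring

theorem hSum_eq (x y : A) (n : ℕ) : (x - y) ^ 2 * hSum x y n =
    ((n : A) + 1) * x ^ (n + 2) - ((n : A) + 2) * x ^ (n + 1) * y + y ^ (n + 2) := by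
  induction n with
  | zero => simp [hSum]; ring
  | succ n ih =>
    rw [hSum_succ, mul_add, ← mul_assoc, mul_comm _ y, mul_assoc, ih]
    push_cast; ring

theorem sSum_succ (x y : A) (n : ℕ) : sSum x y (n + 1) = y * sSum x y n + hSum x y (n + 1) := by
  unfold sSum hSum
  rw [Finset.sum_range_succ, Finset.sum_range_succ (n := n + 1), Finset.mul_sum, ← add_assoc,
    ← Finset.sum_add_distrib]
  congr 1
  · refine Finset.sum_congr rfl fun i hi => ?_
    have : n + 1 - i = (n - i) + 1 := by
      have := Finset.mem_range.1 hi; omega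
    rw [this, pow_succ]; push_cast; ring
  · push_cast; ring

theorem sSum_eq (x y : A) (n : ℕ) : (x - y) ^ 3 * sSum x y n =
    ((n : A) + 1) * x ^ (n + 3) - ((n : A) + 3) * x ^ (n + 2) * y + ((n : A) + 3) * x * y ^ (n + 2)
      - ((n : A) + 1) * y ^ (n + 3) := by
  induction n with
  | zero => simp [sSum]; ring
  | succ n ih =>
    have h1 : (x - y) ^ 3 * sSum x y (n + 1) =
        y * ((x - y) ^ 3 * sSum x y n) + (x - y) * ((x - y) ^ 2 * hSum x y (n + 1)) := by
      rw [sSum_succ]; ring
    rw [h1, ih, hSum_eq]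
    push_cast; ring

end identity

/-- The identity for two commuting elements of a noncommutative algebra. -/
theorem sSum_commute {k B : Type*} [Field k] [Ring B] [Algebra k B] (x y : B) (h : Commute x y)
    (n : ℕ) :
    (x - y) ^ 3 * (∑ i ∈ Finset.range (n + 1),
        ((((i : k) + 1) * ((n : k) + 1 - i)) • (x ^ i * y ^ (n - i)))) =
      ((n : k) + 1) • x ^ (n + 3) - ((n : k) + 3) • (x ^ (n + 2) * y) +
        ((n : k) + 3) • (x * y ^ (n + 2)) - ((n : k) + 1) • y ^ (n + 3) := by
  let g : k[X] →+* B := (aeval x : k[X] →ₐ[k] B).toRingHom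
  have hg : ∀ a, Commute (g a) y := by
    intro a
    induction a using Polynomial.induction_on' with
    | add p q hp hq => rw [map_add]; exact hp.add_left hq
    | monomial m c =>
      show Commute (aeval x (monomial m c)) y
      rw [aeval_monomial]
      exact (show Commute (algebraMap k B c) y from Algebra.commutes c y).mul_left (h.pow_left m)
  let F : k[X][X] →+* B := Polynomial.eval₂RingHom' g y hg
  have hFx : F (C X) = x := by
    simp [F, g]
  have hFy : F X = y := by
    simp [F]
  have key := congrArg F (sSum_eq (C X : k[X][X]) X n)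
  unfold sSum at key
  simp only [map_mul, map_pow, map_sub, map_add, map_sum, map_natCast, map_one, map_ofNat, hFx,
    hFy] at key
  simp only [Algebra.smul_def, map_mul, map_sub, map_add, map_natCast, map_one, map_ofNat]
  simp only [mul_assoc] at key ⊢
  exact key

theorem exists_trace_ne_zero {k V : Type*} [Field k] [AddCommGroup V] [Module k V]
    [FiniteDimensional k V] (p : ℕ) [Fact p.Prime] [CharP k p] (hp : finrank k V + 1 < p)
    (ν : Module.End k V) (hν : IsNilpotent ν) (hν0 : ν ≠ 0) :
    ∃ c : Module.End k V,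
      (let δ : Module.End k V → Module.End k V := fun a => ν * a - a * ν
       δ (δ (δ c)) = 0) ∧
      ∀ q : Module.End k V, Commute q ν → LinearMap.trace k V (c * (ν + ν ^ 2 * q)) ≠ 0 := by
  classical
  -- the nilpotency index is `n + 2`
  obtain ⟨n, hn2, hn1⟩ : ∃ n : ℕ, ν ^ (n + 2) = 0 ∧ ν ^ (n + 1) ≠ 0 := by
    let a := Nat.find hν
    have ha : ν ^ a = 0 := Nat.find_spec hν
    have hmin : ∀ m < a, ν ^ m ≠ 0 := fun m hm => Nat.find_min hν hm
    have h0 : a ≠ 0 := by
      intro h0
      rw [h0, pow_zero] at ha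
      apply hν0
      rw [← mul_one ν, ha, mul_zero]
    have h1 : a ≠ 1 := by
      intro h1
      rw [h1, pow_one] at ha
      exact hν0 ha
    refine ⟨a - 2, ?_, ?_⟩
    · rw [show a - 2 + 2 = a by omega]; exact ha
    · exact hmin _ (by omega)
  have hnV : n + 2 ≤ finrank k V := by
    by_contra hlt
    push Not at hlt
    apply hn1
    have h1 : LinearMap.ker (ν ^ (n + 2)) ≤ LinearMap.ker (ν ^ finrank k V) :=
      Module.End.ker_pow_le_ker_pow_finrank ν (n + 2)
    rw [hn2, LinearMap.ker_zero, top_le_iff, LinearMap.ker_eq_top] at h1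
    rw [show n + 1 = finrank k V + (n + 1 - finrank k V) by omega, pow_add, h1, zero_mul]
  obtain ⟨u, hu⟩ : ∃ u, (ν ^ (n + 1)) u ≠ 0 := by
    by_contra hcon
    push Not at hcon
    exact hn1 (LinearMap.ext hcon)
  obtain ⟨ψ, hψ⟩ : ∃ ψ : V →ₗ[k] k, ψ ((ν ^ (n + 1)) u) = 1 := by
    obtain ⟨f, hf⟩ : ∃ f : Module.Dual k V, f ((ν ^ (n + 1)) u) ≠ 0 := by
      by_contra hcon
      push Not at hcon
      exact hu ((Module.forall_dual_apply_eq_zero_iff k _).1 hcon)
    exact ⟨(f ((ν ^ (n + 1)) u))⁻¹ • f, by simp [hf]⟩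
  let T : Module.End k V := ψ.smulRight u
  have hT : ∀ B : Module.End k V, LinearMap.trace k V (T * B) = ψ (B u) := by
    intro B
    rw [LinearMap.trace_mul_comm]
    have : B * T = ψ.smulRight (B u) := by
      ext v
      simp [T]
    rw [this, LinearMap.trace_smulRight]
  let c : Module.End k V :=
    ∑ i ∈ Finset.range (n + 1), ((((i : k) + 1) * ((n : k) + 1 - i)) • (ν ^ i * T * ν ^ (n - i)))
  refine ⟨c, ?_, ?_⟩
  · -- left and right multiplication by `ν`
    let L : Module.End k (Module.End k V) := LinearMap.mulLeft k ν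
    let R : Module.End k (Module.End k V) := LinearMap.mulRight k ν
    have hLR : Commute L R := by
      apply LinearMap.ext
      intro a
      simp [L, R, mul_assoc]
    have hLp : ∀ (m : ℕ) (a : Module.End k V), (L ^ m) a = ν ^ m * a := by
      intro m a
      simp [L]
    have hRp : ∀ (m : ℕ) (a : Module.End k V), (R ^ m) a = a * ν ^ m := by
      intro m a
      simp [R]
    have hc : c = (∑ i ∈ Finset.range (n + 1),
        ((((i : k) + 1) * ((n : k) + 1 - i)) • (L ^ i * R ^ (n - i)))) T := by
      simp only [c, LinearMap.sum_apply, LinearMap.smul_apply, Module.End.mul_apply, hLp, hRp,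
        mul_assoc]
    have key := congrArg (fun F : Module.End k (Module.End k V) => F T) (sSum_commute (k := k) L R hLR n)
    have h3 : ν ^ (n + 3) = 0 := by rw [show n + 3 = (n + 2) + 1 by ring, pow_succ, hn2, zero_mul]
    have hδ : ∀ a : Module.End k V, ν * a - a * ν = (L - R) a := fun a => rfl
    show ν * (ν * (ν * c - c * ν) - (ν * c - c * ν) * ν) -
      (ν * (ν * c - c * ν) - (ν * c - c * ν) * ν) * ν = 0
    rw [hδ, hδ, hδ, hc]
    have e : (L - R) ((L - R) ((L - R) ((∑ i ∈ Finset.range (n + 1),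
        ((((i : k) + 1) * ((n : k) + 1 - i)) • (L ^ i * R ^ (n - i)))) T))) =
        ((L - R) ^ 3 * (∑ i ∈ Finset.range (n + 1),
        ((((i : k) + 1) * ((n : k) + 1 - i)) • (L ^ i * R ^ (n - i))))) T := by
      rw [pow_succ, pow_two]
      simp only [Module.End.mul_apply]
    rw [e]
    refine key.trans ?_
    simp only [LinearMap.sub_apply, LinearMap.add_apply, LinearMap.smul_apply,
      Module.End.mul_apply, hLp, hRp, hn2, h3]
    simp
  · intro q hq
    have htr : ∀ i ∈ Finset.range (n + 1),
        LinearMap.trace k V (((((i : k) + 1) * ((n : k) + 1 - i)) • (ν ^ i * T * ν ^ (n - i))) *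
          (ν + ν ^ 2 * q)) = ((i : k) + 1) * ((n : k) + 1 - i) := by
      intro i hi
      have hi' : i ≤ n := by have := Finset.mem_range.1 hi; omega
      rw [smul_mul_assoc, map_smul, smul_eq_mul]
      have h1 : LinearMap.trace k V (ν ^ i * T * ν ^ (n - i) * (ν + ν ^ 2 * q)) = 1 := by
        rw [mul_assoc, mul_assoc, LinearMap.trace_mul_comm, mul_assoc, hT]
        have hq2 : (ν + ν ^ 2 * q) * ν ^ i = ν ^ i * (ν + ν ^ 2 * q) := by
          have c1 : Commute (ν ^ 2 * q) (ν ^ i) :=
            ((Commute.refl ν).pow_pow 2 i).mul_left (hq.pow_right i)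
          exact (((Commute.refl ν).pow_right i).add_left c1).eq
        have h2 : ν ^ (n - i) * (ν + ν ^ 2 * q) * ν ^ i = ν ^ (n + 1) := by
          rw [mul_assoc, hq2, ← mul_assoc, ← pow_add, show n - i + i = n by omega, mul_add,
            ← pow_succ, ← mul_assoc, ← pow_add, hn2, zero_mul, add_zero]
        rw [h2]
        exact hψ
      rw [h1, mul_one]
    have htrace : LinearMap.trace k V (c * (ν + ν ^ 2 * q)) =
        ∑ i ∈ Finset.range (n + 1), (((i : k) + 1) * ((n : k) + 1 - i)) := by
      rw [show c * (ν + ν ^ 2 * q) = ∑ i ∈ Finset.range (n + 1),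
        ((((i : k) + 1) * ((n : k) + 1 - i)) • (ν ^ i * T * ν ^ (n - i))) * (ν + ν ^ 2 * q) from
        Finset.sum_mul _ _ _, map_sum]
      exact Finset.sum_congr rfl htr
    -- `6 S = (n+1)(n+2)(n+3)`
    have hS : ∀ m : ℕ, ∀ N : k, 6 * ∑ i ∈ Finset.range m, (((i : k) + 1) * (N + 1 - i)) =
        (m : k) * (m + 1) * (3 * N + 5 - 2 * m) := by
      intro m N
      induction m with
      | zero => simp
      | succ m ih =>
        rw [Finset.sum_range_succ, mul_add, ih]
        push_cast; ring
    intro h0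
    have h6 := hS (n + 1) (n : k)
    rw [← htrace, h0, mul_zero] at h6
    have h7 : (((n + 1) * (n + 2) * (n + 3) : ℕ) : k) = 0 := by
      rw [h6]; push_cast; ring
    rw [CharP.cast_eq_zero_iff k p] at h7
    have hpp : p.Prime := Fact.out
    rcases (Nat.Prime.dvd_mul hpp).1 h7 with h8 | h8
    · rcases (Nat.Prime.dvd_mul hpp).1 h8 with h9 | h9
      · exact absurd (Nat.le_of_dvd (by omega) h9) (by omega)
      · exact absurd (Nat.le_of_dvd (by omega) h9) (by omega)
    · exact absurd (Nat.le_of_dvd (by omega) h8) (by omega)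

end Cfsg.Agent.LieRecognition.FT61.Nil2
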