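import Mathlib
import Cfsg.Agent.LieRecognition.FT61.TI

/-!
# Lifting summands from `N` to `D`

`P = ⟨x⟩` of order `p` with the TI property, `N` its normaliser, `M` a `kD`-module of characteristic `p`
without `P`-free summand (`∑_{y ∈ P} y = 0` on `M`).  Every `N`-stable direct summand `e M` of `M` is
isomorphic, by an `N`-automorphism `u` of `M`, to a `D`-stable summand.
-/

set_option autoImplicit false

namespace Cfsg.Agent.LieRecognition.FT61.Summand

open Finset

variable {k D M : Type*} [Field k] [Group D] [AddCommGroup M] [Module k M]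

/-- The trace `∑_{y ∈ P} y φ y⁻¹`. -/
def trc (ρ : Representation k D M) (P : Subgroup D) [Fintype P] (φ : Module.End k M) :
    Module.End k M := ∑ y : P, ρ y * φ * ρ (y : D)⁻¹

theorem trc_def (ρ : Representation k D M) (P : Subgroup D) [Fintype P] (φ : Module.End k M) :
    trc ρ P φ = ∑ y : P, ρ y * φ * ρ (y : D)⁻¹ := rfl

theorem commute_trc (ρ : Representation k D M) (P : Subgroup D) [Fintype P] (φ : Module.End k M)
    {z : D} (hz : z ∈ P) : Commute (ρ z) (trc ρ P φ) := by
  show ρ z * trc ρ P φ = trc ρ P φ * ρ z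
  rw [trc_def, Finset.mul_sum, Finset.sum_mul]
  refine Fintype.sum_equiv (Equiv.mulLeft (⟨z, hz⟩ : P)) _ _ fun y => ?_
  simp only [Equiv.coe_mulLeft, Subgroup.coe_mul, mul_inv_rev, map_mul]
  have : ρ z⁻¹ * ρ z = 1 := by rw [← map_mul, inv_mul_cancel, map_one]
  rw [mul_assoc (ρ z * ρ y * φ), mul_assoc (ρ (y : D)⁻¹), this, mul_one]
  simp only [mul_assoc]

theorem mul_trc (ρ : Representation k D M) (P : Subgroup D) [Fintype P] (φ a : Module.End k M)
    (ha : ∀ y ∈ P, Commute (ρ y) a) : a * trc ρ P φ = trc ρ P (a * φ) := by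
  rw [trc_def, trc_def, Finset.mul_sum]
  refine Finset.sum_congr rfl fun y _ => ?_
  have := (ha y y.2).eq
  rw [← mul_assoc (ρ y), this]
  simp only [mul_assoc]

theorem trc_mul (ρ : Representation k D M) (P : Subgroup D) [Fintype P] (φ a : Module.End k M)
    (ha : ∀ y ∈ P, Commute (ρ y) a) : trc ρ P φ * a = trc ρ P (φ * a) := by
  rw [trc_def, trc_def, Finset.sum_mul]
  refine Finset.sum_congr rfl fun y _ => ?_
  have := (ha _ (P.inv_mem y.2)).eq
  rw [mul_assoc, this]
  simp only [mul_assoc]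

theorem trc_add (ρ : Representation k D M) (P : Subgroup D) [Fintype P] (φ ψ : Module.End k M) :
    trc ρ P (φ + ψ) = trc ρ P φ + trc ρ P ψ := by
  rw [trc_def, trc_def, trc_def, ← Finset.sum_add_distrib]
  exact Finset.sum_congr rfl fun y _ => by rw [mul_add, add_mul]

theorem trc_neg (ρ : Representation k D M) (P : Subgroup D) [Fintype P] (φ : Module.End k M) :
    trc ρ P (-φ) = - trc ρ P φ := by
  rw [trc_def, trc_def, ← Finset.sum_neg_distrib]
  exact Finset.sum_congr rfl fun y _ => by rw [mul_neg, neg_mul]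

theorem trc_pow_eq_zero (ρ : Representation k D M) {x : D} (P : Subgroup D) [Fintype P]
    (hxP : x ∈ P) (hPx : P ≤ Subgroup.zpowers x)
    (htr : ∀ m : M, ∑ y : P, ρ y m = 0) {n : ℕ} (hn : (ρ x - 1) ^ n = 0)
    (φ : Module.End k M) : trc ρ P φ ^ n = 0 := by
  set j := trc ρ P φ with hj
  have hc : Commute (ρ x - 1) j := by
    exact (commute_trc ρ _ φ hxP).sub_left (Commute.one_left _)
  have hfix : ∀ v : M, (ρ x - 1) v = 0 → j v = 0 := by
    intro v hv
    have h1 : ρ x v = v := by
      rw [LinearMap.sub_apply, Module.End.one_apply, sub_eq_zero] at hv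
      exact hv
    have h2 : ∀ y : P, ρ (y : D)⁻¹ v = v := by
      intro y
      have h3 : ∀ z ∈ Subgroup.zpowers x, ρ z v = v := by
        intro z hz
        let S : Subgroup D :=
          { carrier := {g | ρ g v = v}
            mul_mem' := fun {a b} ha hb => by
              show ρ (a * b) v = v
              rw [map_mul, Module.End.mul_apply, show ρ b v = v from hb, show ρ a v = v from ha]
            one_mem' := by simp
            inv_mem' := fun {a} ha => by
              show ρ a⁻¹ v = v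
              have h5 : ρ a⁻¹ (ρ a v) = v := by
                rw [← Module.End.mul_apply, ← map_mul, inv_mul_cancel, map_one,
                  Module.End.one_apply]
              rwa [show ρ a v = v from ha] at h5 }
        have : Subgroup.zpowers x ≤ S := by
          rw [Subgroup.zpowers_le]
          exact h1
        exact this hz
      exact h3 _ (Subgroup.inv_mem _ (hPx y.2))
    rw [hj, trc_def, LinearMap.sum_apply]
    have h4 := htr (φ v)
    rw [← h4]
    refine Finset.sum_congr rfl fun y _ => ?_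
    rw [Module.End.mul_apply, Module.End.mul_apply, h2]
  have key : ∀ i : ℕ, ∀ v : M, ((ρ x - 1) ^ i) v = 0 → (j ^ i) v = 0 := by
    intro i
    induction i with
    | zero => intro v hv; simpa using hv
    | succ i ih =>
      intro v hv
      rw [pow_succ, Module.End.mul_apply]
      apply ih
      have h1 : (ρ x - 1) (((ρ x - 1) ^ i) v) = 0 := by
        rw [← Module.End.mul_apply, ← pow_succ']
        exact hv
      have h2 := hfix _ h1
      have h3 : (ρ x - 1) ^ i * j = j * (ρ x - 1) ^ i := (hc.pow_left i).eq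
      rw [← Module.End.mul_apply, h3, Module.End.mul_apply]
      exact h2
  ext v
  exact key n v (by rw [hn]; rfl)

theorem exists_summand [Finite D] (ρ : Representation k D M) {x : D}
    (P N : Subgroup D) [Fintype P] (hxP : x ∈ P) (hPx : P ≤ Subgroup.zpowers x) (hPN : P ≤ N)
    (hTI : ∀ g : D, g ∉ N → ∀ y ∈ P, g⁻¹ * y * g ∈ N → y = 1)
    (htr : ∀ m : M, ∑ y : P, ρ y m = 0) {n : ℕ} (hn : (ρ x - 1) ^ n = 0)
    (e : Module.End k M) (he : e * e = e) (heN : ∀ g ∈ N, Commute (ρ g) e) :
    ∃ (u : (Module.End k M)ˣ) (f : Module.End k M), (∀ g ∈ N, Commute (ρ g) u) ∧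
      (∀ g : D, Commute (ρ g) f) ∧ f * f = f ∧ (u : Module.End k M) * e = f * u := by
  classical
  obtain ⟨b, φ, hb, hbe⟩ := TI.exists_transfer (Representation.linHom ρ ρ) P N hPN hTI e (by
    intro g hg
    rw [Representation.linHom_apply]
    have h1 := (heN g hg).eq
    show ρ g * (e * ρ g⁻¹) = e
    rw [← mul_assoc, h1, mul_assoc, ← map_mul, mul_inv_cancel, map_one, mul_one])
  have hbD : ∀ g : D, Commute (ρ g) b := by
    intro g
    have h1 := hb g
    rw [Representation.linHom_apply] at h1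
    have h2 : ρ g * (b * ρ g⁻¹) = b := h1
    show ρ g * b = b * ρ g
    calc ρ g * b = ρ g * (b * (ρ g⁻¹ * ρ g)) := by
          rw [← map_mul, inv_mul_cancel, map_one, mul_one]
      _ = (ρ g * (b * ρ g⁻¹)) * ρ g := by simp only [mul_assoc]
      _ = b * ρ g := by rw [h2]
  set j := trc ρ P φ with hj
  have hbe' : b = e + j := by
    rw [hbe, hj, trc_def]
    congr 1
  have heP : ∀ y ∈ P, Commute (ρ y) e := fun y hy => heN y (hPN hy)
  have hjP : ∀ y ∈ P, Commute (ρ y) j := fun y hy => commute_trc ρ P φ hy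
  have hbP : ∀ y ∈ P, Commute (ρ y) b := fun y _ => hbD y
  -- congruence modulo traces
  let R : Module.End k M → Module.End k M → Prop := fun a c => ∃ ψ, a = c + trc ρ P ψ
  have Rrefl : ∀ a, R a a := fun a => ⟨0, by simp [trc_def]⟩
  have Rmul : ∀ a c a' c' : Module.End k M, (∀ y ∈ P, Commute (ρ y) c) → (∀ y ∈ P, Commute (ρ y) a') →
      R a c → R a' c' → R (a * a') (c * c') := by
    rintro a c a' c' hc ha' ⟨ψ, hψ⟩ ⟨ψ', hψ'⟩
    refine ⟨c * ψ' + ψ * a', ?_⟩
    rw [trc_add, ← mul_trc ρ P ψ' c hc, ← trc_mul ρ P ψ a' ha', hψ]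
    nth_rewrite 1 [hψ']
    rw [add_mul, mul_add, hψ']
    abel
  have Rpow : ∀ a c : Module.End k M, (∀ y ∈ P, Commute (ρ y) c) → (∀ y ∈ P, Commute (ρ y) a) →
      R a c → ∀ i : ℕ, R (a ^ i) (c ^ i) := by
    intro a c hc ha h i
    induction i with
    | zero => rw [pow_zero, pow_zero]; exact Rrefl _
    | succ i ih =>
      rw [pow_succ, pow_succ]
      exact Rmul _ _ _ _ (fun y hy => (hc y hy).pow_right i) ha ih h
  have Rsub : ∀ a c : Module.End k M, R a c → R (1 - a) (1 - c) := by
    rintro a c ⟨ψ, hψ⟩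
    refine ⟨-ψ, ?_⟩
    rw [trc_neg, hψ]
    abel
  have hRb : R b e := ⟨φ, hbe'⟩
  -- the idempotent
  have hsq : ∃ ψ, b - b ^ 2 = trc ρ P ψ := by
    obtain ⟨ψ, hψ⟩ := Rmul b e b e heP hbP hRb hRb
    refine ⟨φ - ψ, ?_⟩
    rw [sub_eq_add_neg φ, trc_add, trc_neg, sq, hψ, he, hbe']
    abel
  obtain ⟨ψ₁, hψ₁⟩ := hsq
  have hnil : (b - b ^ 2) ^ n = 0 := by
    rw [hψ₁]
    exact trc_pow_eq_zero ρ P hxP hPx htr hn ψ₁
  set f : Module.End k M := 1 - (1 - b ^ n) ^ n with hf
  have hff : IsIdempotentElem f := isIdempotentElem_one_sub_one_sub_pow_pow b n hnil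
  have hfD : ∀ g : D, Commute (ρ g) f := by
    intro g
    exact (Commute.one_right _).sub_right (((Commute.one_right _).sub_right
      ((hbD g).pow_right n)).pow_right n)
  rcases Nat.eq_zero_or_pos n with hn0 | hnpos
  · -- then `M = 0`
    subst hn0
    rw [pow_zero] at hn
    have hz : ∀ a : Module.End k M, a = 0 := fun a => by rw [← mul_one a, hn, mul_zero]
    refine ⟨1, 0, fun g _ => ?_, fun g => Commute.zero_right _, by simp, ?_⟩
    · exact Commute.one_right _
    · rw [hz e]; simp
  have hRf : R f e := by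
    have h1 : R (b ^ n) (e ^ n) := Rpow b e heP hbP hRb n
    have hen : e ^ n = e := IsIdempotentElem.pow_eq he hnpos.ne'
    rw [hen] at h1
    have h2 := Rsub _ _ h1
    have h3 := Rpow (1 - b ^ n) (1 - e) (fun y hy => (Commute.one_right _).sub_right (heP y hy))
      (fun y hy => (Commute.one_right _).sub_right ((hbP y hy).pow_right n)) h2 n
    have h1e : (1 - e) ^ n = 1 - e := IsIdempotentElem.pow_eq (IsIdempotentElem.one_sub he) hnpos.ne'
    rw [h1e] at h3
    have h4 := Rsub _ _ h3
    rwa [sub_sub_cancel] at h4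
  obtain ⟨ψ₂, hψ₂⟩ := hRf
  set j' := trc ρ P ψ₂ with hj'
  set v : Module.End k M := f * e + (1 - f) * (1 - e) with hv
  have hv1 : v = 1 - j' * (1 - 2 * e) := by
    rw [hv, hψ₂]
    have h1 : (e + j') * e + (1 - (e + j')) * (1 - e) = 1 - j' * (1 - 2 * e) + 2 * (e * e - e) := by
      noncomm_ring
    rw [h1, he, sub_self, mul_zero, add_zero]
  have hnil2 : IsNilpotent (j' * (1 - 2 * e)) := by
    refine ⟨n, ?_⟩
    have h2e : ∀ y ∈ P, Commute (ρ y) (1 - 2 * e) := fun y hy =>
      (Commute.one_right _).sub_right ((Commute.ofNat_right _ 2).mul_right (heP y hy))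
    rw [hj', trc_mul ρ P ψ₂ _ h2e]
    exact trc_pow_eq_zero ρ P hxP hPx htr hn _
  have hunit : IsUnit v := by
    rw [hv1]
    exact hnil2.isUnit_one_sub
  obtain ⟨u, hu⟩ := hunit
  refine ⟨u, f, fun g hg => ?_, hfD, hff, ?_⟩
  · rw [hu, hv]
    exact ((hfD g).mul_right (heN g hg)).add_right (((Commute.one_right _).sub_right (hfD g)).mul_right
      ((Commute.one_right _).sub_right (heN g hg)))
  · rw [hu, hv]
    have h1 : (f * e + (1 - f) * (1 - e)) * e = f * (e * e) + (1 - f) * (e - e * e) := by noncomm_ring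
    have h2 : f * (f * e + (1 - f) * (1 - e)) = f * f * e + (f - f * f) * (1 - e) := by noncomm_ring
    rw [h1, h2, he, hff.eq]
    simp

end Cfsg.Agent.LieRecognition.FT61.Summand
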