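import Mathlib
import Cfsg.Agent.LieRecognition.FT61.TI
import Cfsg.Agent.LieRecognition.FT61.EndRep
import Cfsg.Agent.LieRecognition.FT61.Triple
import Cfsg.Agent.LieRecognition.FT61.Summand
import Cfsg.Agent.LieRecognition.FT61.Nil
import Cfsg.Agent.LieRecognition.FT61.Nil2

/-!
# Theorem C, first part

The case where the normaliser of `P` centralises `P`, and the three-dimensional `D`-stable summand of the
endomorphism module.
-/

set_option autoImplicit false

namespace Cfsg.Agent.LieRecognition.FT61.ThmC1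

open Finset Module

section

variable {k V D : Type*} [Field k] [AddCommGroup V] [Module k V] [FiniteDimensional k V] [Group D]
  [Finite D]

theorem pow_eq_one_of_mem {p : ℕ} (P : Sylow p D) (hP : Nat.card P = p) {x : D}
    (hx : x ∈ (P : Subgroup D)) : x ^ p = 1 := by
  have h1 : (⟨x, hx⟩ : (P : Subgroup D)) ^ Nat.card (P : Subgroup D) = 1 := pow_card_eq_one'
  have h2 : Nat.card (P : Subgroup D) = p := hP
  rw [h2] at h1
  exact congrArg Subtype.val h1

theorem zpowers_eq {p : ℕ} [Fact p.Prime] (P : Sylow p D) (hP : Nat.card P = p) {x : D}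
    (hx : x ∈ (P : Subgroup D)) (hx1 : x ≠ 1) : Subgroup.zpowers x = (P : Subgroup D) := by
  have h1 : Subgroup.zpowers x ≤ (P : Subgroup D) := by rw [Subgroup.zpowers_le]; exact hx
  apply Subgroup.eq_of_le_of_card_ge h1
  have h2 : Nat.card (P : Subgroup D) = p := hP
  rw [h2, Nat.card_zpowers, orderOf_eq_prime (pow_eq_one_of_mem P hP hx) hx1]

/-- **Case `N = C`.** -/
theorem central_of_le (p : ℕ) [Fact p.Prime] [CharP k p] (ρ : Representation k D V)
    (hρ : Function.Injective ρ) (hdim : 2 * Module.finrank k V < p) (P : Sylow p D)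
    (hP : Nat.card P = p) {x : D} (hx : x ∈ (P : Subgroup D))
    (hN : ∀ g ∈ Subgroup.normalizer ((P : Subgroup D) : Set D), g * x = x * g) (g : D) :
    g * x = x * g := by
  classical
  have hp : p.Prime := Fact.out
  by_cases hx1 : x = 1
  · rw [hx1, mul_one, one_mul]
  have hPx := zpowers_eq P hP hx hx1
  have hxo : orderOf x = p := orderOf_eq_prime (pow_eq_one_of_mem P hP hx) hx1
  have : Fintype (Subgroup.zpowers x) := Fintype.ofFinite _
  have hnil := EndRep.sub_one_pow_eq_zero p ρ (pow_eq_one_of_mem P hP hx)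
  have hnil2 := EndRep.linHom_sub_one_pow ρ (c := p - 1) hnil (by omega)
  have h1 := TI.fixed_of_fixed (Representation.linHom ρ ρ) (Subgroup.zpowers x)
    (Subgroup.normalizer ((P : Subgroup D) : Set D)) (by rw [hPx]; exact Subgroup.le_normalizer)
    (by
      intro g hg y hy hyg
      rw [hPx] at hy
      exact EndRep.ti_of_card p P hP g hg y hy hyg)
    (TI.sum_zpowers p (Representation.linHom ρ ρ) x hxo hnil2) (ρ x) (by
      intro g hg
      show ρ g * (ρ x * ρ g⁻¹) = ρ x
      rw [← map_mul, ← map_mul]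
      congr 1
      rw [← mul_assoc, hN g hg, mul_assoc, mul_inv_cancel, mul_one]) g
  have h2 : ρ g * (ρ x * ρ g⁻¹) = ρ x := h1
  rw [← map_mul, ← map_mul] at h2
  have h3 := hρ h2
  rw [← mul_assoc, mul_inv_eq_iff_eq_mul] at h3
  exact h3

/-- The bracket identities used below. -/
theorem delta_pow (ρ : Representation k D V) (x : D) (m : Module.End k V) :
    ((Representation.linHom ρ ρ x - 1 : Module.End k (Module.End k V)) ^ 2) m =
      ((ρ x - 1) * ((ρ x - 1) * m - m * (ρ x - 1)) - ((ρ x - 1) * m - m * (ρ x - 1)) * (ρ x - 1)) *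
        (ρ x⁻¹ * ρ x⁻¹) ∧
    ((Representation.linHom ρ ρ x - 1 : Module.End k (Module.End k V)) ^ 3) m =
      (ρ x * ρ x * ρ x * m - 3 * (ρ x * ρ x * m * ρ x) + 3 * (ρ x * m * ρ x * ρ x) -
        m * ρ x * ρ x * ρ x) * (ρ x⁻¹ * ρ x⁻¹ * ρ x⁻¹) := by
  have hAB : (ρ x : Module.End k V) * ρ x⁻¹ = 1 := by rw [← map_mul, mul_inv_cancel, map_one]
  set A : Module.End k V := ρ x with hA
  set B : Module.End k V := ρ x⁻¹ with hB
  have h1 : ∀ f : Module.End k V,
      (Representation.linHom ρ ρ x - 1 : Module.End k (Module.End k V)) f = A * f * B - f := by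
    intro f
    show A * (f * B) - f = A * f * B - f
    rw [mul_assoc]
  have h2 : ((Representation.linHom ρ ρ x - 1 : Module.End k (Module.End k V)) ^ 2) m =
      A * (A * m * B - m) * B - (A * m * B - m) := by
    rw [sq, Module.End.mul_apply, h1, h1]
  constructor
  · rw [h2]
    have h3 : ((A - 1) * ((A - 1) * m - m * (A - 1)) - ((A - 1) * m - m * (A - 1)) * (A - 1)) *
        (B * B) = A * A * m * (B * B) - A * m * (A * B) * B - A * m * (A * B) * B +
        m * A * (A * B) * B := by
      noncomm_ring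
    rw [h3, hAB]
    have h4 : m * A * 1 * B = m * (A * B) := by noncomm_ring
    rw [h4, hAB]
    noncomm_ring
  · rw [pow_succ', Module.End.mul_apply, h1, h2]
    have h3 : (A * A * A * m - 3 * (A * A * m * A) + 3 * (A * m * A * A) - m * A * A * A) *
        (B * B * B) = A * A * A * m * B * B * B - 3 * (A * A * m * (A * B) * B * B) +
        3 * (A * m * (A * (A * B) * B) * B) - m * (A * (A * (A * B) * B) * B) := by
      noncomm_ring
    rw [h3, hAB]
    have h4 : A * 1 * B = 1 := by rw [mul_one, hAB]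
    rw [h4, h4]
    noncomm_ring

end

end Cfsg.Agent.LieRecognition.FT61.ThmC1
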