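import Mathlib
import Cfsg.Agent.LieRecognition.FT61.ThmC1

/-!
# Theorem C, second part

The three-dimensional `D`-stable summand of the endomorphism module.
-/

set_option autoImplicit false

namespace Cfsg.Agent.LieRecognition.FT61.ThmC2

open Finset Module

section

variable {D : Type*} [Group D] [Finite D]

/-- A complement of `P` in its normaliser. -/
theorem exists_complement {p : ℕ} [Fact p.Prime] (P : Sylow p D) (hP : Nat.card P = p) {x : D}
    (hx : x ∈ (P : Subgroup D)) (hx1 : x ≠ 1) :
    ∃ N₁ : Subgroup D, ¬ p ∣ Nat.card N₁ ∧ (∀ g ∈ N₁, ∃ a : ℕ, g * x * g⁻¹ = x ^ a) ∧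
      Subgroup.normalizer ((P : Subgroup D) : Set D) = Subgroup.zpowers x ⊔ N₁ := by
  classical
  have hp : p.Prime := Fact.out
  set N : Subgroup D := Subgroup.normalizer ((P : Subgroup D) : Set D) with hN
  have hPN : (P : Subgroup D) ≤ N := Subgroup.le_normalizer
  have hPx := ThmC1.zpowers_eq P hP hx hx1
  set P' : Subgroup N := (P : Subgroup D).subgroupOf N with hP'
  have hnorm : P'.Normal := Subgroup.normal_in_normalizer
  have hcardP' : Nat.card P' = p := by
    rw [← hP]
    exact Nat.card_congr (Subgroup.subgroupOfEquivOfLe hPN).toEquiv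
  have hidx : ¬ p ∣ P'.index := by
    have h1 : P'.index ∣ (P : Subgroup D).index := Subgroup.relIndex_dvd_index_of_le hPN
    intro h
    exact P.not_dvd_index (h.trans h1)
  have hcop : Nat.Coprime (Nat.card P') P'.index := by
    rw [hcardP']
    exact (Nat.Prime.coprime_iff_not_dvd hp).2 hidx
  obtain ⟨H, hH⟩ := Subgroup.exists_right_complement'_of_coprime hcop
  have hcardH : Nat.card H = P'.index := (hH.symm.index_eq_card).symm
  refine ⟨H.map N.subtype, ?_, ?_, ?_⟩
  · rw [Subgroup.card_map_of_injective N.subtype_injective, hcardH]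
    exact hidx
  · rintro _ ⟨g, -, rfl⟩
    have hg : (g : D) ∈ N := g.2
    have h1 : (g : D) * x * (g : D)⁻¹ ∈ (P : Subgroup D) :=
      ((Subgroup.mem_normalizer_iff.1 hg) x).1 hx
    rw [← hPx] at h1
    obtain ⟨a, ha⟩ := mem_powers_iff_mem_zpowers.2 h1
    exact ⟨a, ha.symm⟩
  · rw [hPx]
    have h1 : (P' ⊔ H).map N.subtype = (P : Subgroup D) ⊔ H.map N.subtype := by
      rw [Subgroup.map_sup, hP', Subgroup.map_subgroupOf_eq_of_le hPN]
    rw [← h1, hH.sup_eq_top, ← MonoidHom.range_eq_map, Subgroup.range_subtype]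

end

section

variable {k V D : Type*} [Field k] [AddCommGroup V] [Module k V] [FiniteDimensional k V] [Group D]
  [Finite D]

/-- The weight vector `s = ν + ν² q` of weight `α`. -/
theorem exists_weight (p : ℕ) [Fact p.Prime] [CharP k p] (ρ : Representation k D V) {x : D}
    {N₁ : Subgroup D} (hcard : ¬ p ∣ Nat.card N₁) {α : N₁ →* k}
    (hα : ∀ g : N₁, ∃ a : ℕ, (g : D) * x * (g : D)⁻¹ = x ^ a ∧ α g = (a : k)) :
    ∃ q : Module.End k V, Commute q (ρ x - 1) ∧ ∀ g : N₁,
      ρ g * (((ρ x - 1) + (ρ x - 1) ^ 2 * q) * ρ (g : D)⁻¹) = α g • ((ρ x - 1) + (ρ x - 1) ^ 2 * q) := by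
  classical
  have : Fintype N₁ := Fintype.ofFinite N₁
  have hc : (Nat.card N₁ : k) ≠ 0 := by
    intro h
    exact hcard ((CharP.cast_eq_zero_iff k p _).1 h)
  have hαinv : ∀ g : N₁, α g * α g⁻¹ = 1 := fun g => by
    rw [← map_mul, mul_inv_cancel, map_one]
  set ν : Module.End k V := ρ x - 1 with hν
  choose r hr hrel using fun g : N₁ => Triple.mul_delta ρ hα g
  have h1 : ∀ g : N₁, ρ g * (ν * ρ (g : D)⁻¹) = α g • ν + ν ^ 2 * r g := by
    intro g
    rw [← mul_assoc, hrel, mul_assoc, ← map_mul, mul_inv_cancel, map_one, mul_one,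
      ((hr g).pow_right 2).eq]
  set q : Module.End k V := (Nat.card N₁ : k)⁻¹ • ∑ g : N₁, α g⁻¹ • r g with hq
  have hqc : Commute q ν := by
    rw [hq]
    apply Commute.smul_left
    apply Commute.sum_left
    intro g _
    exact (hr g).smul_left _
  have h2 : ν + ν ^ 2 * q = (Nat.card N₁ : k)⁻¹ • ∑ g : N₁, α g⁻¹ • (ρ g * (ν * ρ (g : D)⁻¹)) := by
    simp_rw [h1]
    simp only [smul_add, smul_smul, Finset.sum_add_distrib]
    have h3 : ∀ g : N₁, α g⁻¹ * α g = 1 := fun g => by rw [mul_comm, hαinv]
    simp_rw [h3]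
    rw [Finset.sum_const, Finset.card_univ, ← Nat.card_eq_fintype_card, one_smul,
      ← Nat.cast_smul_eq_nsmul k, smul_smul, inv_mul_cancel₀ hc, one_smul, hq, mul_smul_comm,
      Finset.mul_sum]
    simp only [mul_smul_comm]
  refine ⟨q, hqc, fun h => ?_⟩
  rw [h2, smul_mul_assoc, mul_smul_comm, smul_comm (α h)]
  congr 1
  rw [Finset.sum_mul, Finset.mul_sum, Finset.smul_sum]
  refine Fintype.sum_equiv (Equiv.mulLeft h) _ _ fun g => ?_
  rw [Equiv.coe_mulLeft, smul_mul_assoc, mul_smul_comm, smul_smul, mul_inv_rev, map_mul,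
    mul_comm (α g⁻¹), ← mul_assoc (α h), hαinv, one_mul]
  congr 1
  rw [Subgroup.coe_mul, map_mul, mul_inv_rev, map_mul]
  simp only [mul_assoc]

theorem trace_delta_cube (ρ : Representation k D V) (x : D) (c : Module.End k V)
    (hc : (ρ x - 1) * ((ρ x - 1) * ((ρ x - 1) * c - c * (ρ x - 1)) -
        ((ρ x - 1) * c - c * (ρ x - 1)) * (ρ x - 1)) -
      ((ρ x - 1) * ((ρ x - 1) * c - c * (ρ x - 1)) -
        ((ρ x - 1) * c - c * (ρ x - 1)) * (ρ x - 1)) * (ρ x - 1) = 0) (m : Module.End k V) :
    LinearMap.trace k V (c *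
      ((Representation.linHom ρ ρ x - 1 : Module.End k (Module.End k V)) ^ 3) m) = 0 := by
  rw [(ThmC1.delta_pow ρ x m).2]
  set A : Module.End k V := ρ x with hA
  set B : Module.End k V := ρ x⁻¹ * ρ x⁻¹ * ρ x⁻¹ with hB
  have h1 : c * ((A * A * A * m - 3 * (A * A * m * A) + 3 * (A * m * A * A) - m * A * A * A) * B) =
      (c * A * A * A) * m * B - 3 * ((c * A * A) * m * (A * B)) + 3 * ((c * A) * m * (A * A * B)) -
        c * m * (A * A * A * B) := by
    noncomm_ring
  have h3 : ∀ X : Module.End k V, 3 * X = (3 : k) • X := fun X => by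
    rw [show (3 : k) • X = ((3 : ℕ) : k) • X by norm_num, Nat.cast_smul_eq_nsmul, nsmul_eq_mul]
    norm_num
  have hBA : A * B = B * A := by
    rw [hA, hB, ← map_mul, ← map_mul, ← map_mul, ← map_mul]
    congr 1
    group
  rw [h1, h3, h3, map_sub, map_add, map_sub, map_smul, map_smul,
    LinearMap.trace_mul_comm k (c * A * A * A * m), LinearMap.trace_mul_comm k (c * A * A * m),
    LinearMap.trace_mul_comm k (c * A * m), LinearMap.trace_mul_comm k (c * m)]
  have h4 : B * (c * A * A * A * m) - (3 : k) • (A * B * (c * A * A * m)) +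
      (3 : k) • (A * A * B * (c * A * m)) - A * A * A * B * (c * m) = 0 := by
    rw [← h3, ← h3]
    have h5 : A * A * B = B * A * A := by rw [mul_assoc, hBA, ← mul_assoc, hBA]
    have h6 : A * A * A * B = B * A * A * A := by
      rw [mul_assoc, hBA, ← mul_assoc, h5]
    rw [hBA, h5, h6]
    have h7 : B * (c * A * A * A * m) - 3 * (B * A * (c * A * A * m)) +
        3 * (B * A * A * (c * A * m)) - B * A * A * A * (c * m) =
        -(B * ((A - 1) * ((A - 1) * ((A - 1) * c - c * (A - 1)) -
        ((A - 1) * c - c * (A - 1)) * (A - 1)) -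
      ((A - 1) * ((A - 1) * c - c * (A - 1)) -
        ((A - 1) * c - c * (A - 1)) * (A - 1)) * (A - 1)) * m) := by
      noncomm_ring
    rw [h7, hc]
    simp
  have h5 := congrArg (LinearMap.trace k V) h4
  rw [map_sub, map_add, map_sub, map_smul, map_smul, map_zero] at h5
  exact h5

/-- The stable summand. -/
theorem exists_sub (p : ℕ) [Fact p.Prime] [CharP k p] (ρ : Representation k D V)
    (hρ : Function.Injective ρ) (hp2 : p ≠ 2) (hdim : 2 * Module.finrank k V < p) (P : Sylow p D)
    (hP : Nat.card P = p) {x : D} (hx : x ∈ (P : Subgroup D)) (hx1 : x ≠ 1)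
    {N₁ : Subgroup D} (hcard : ¬ p ∣ Nat.card N₁) {α : N₁ →* k}
    (hα : ∀ g : N₁, ∃ a : ℕ, (g : D) * x * (g : D)⁻¹ = x ^ a ∧ α g = (a : k))
    (hN : Subgroup.normalizer ((P : Subgroup D) : Set D) = Subgroup.zpowers x ⊔ N₁) :
    ∃ (σ : Subrepresentation (Representation.linHom ρ ρ)) (v : σ.toSubmodule),
      ((σ.toRepresentation x - 1 : Module.End k σ.toSubmodule) ^ 3) v = 0 ∧
      ((σ.toRepresentation x - 1 : Module.End k σ.toSubmodule) ^ 2) v ≠ 0 ∧
      (∀ w : σ.toSubmodule, w ∈ Submodule.span k {v,
        (σ.toRepresentation x - 1 : Module.End k σ.toSubmodule) v,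
        ((σ.toRepresentation x - 1 : Module.End k σ.toSubmodule) ^ 2) v}) ∧
      (∀ g : N₁, σ.toRepresentation g v = α g⁻¹ • v) := by
  classical
  have hp : p.Prime := Fact.out
  have hPx := ThmC1.zpowers_eq P hP hx hx1
  have hxo : orderOf x = p := orderOf_eq_prime (ThmC1.pow_eq_one_of_mem P hP hx) hx1
  have : Fintype (Subgroup.zpowers x) := Fintype.ofFinite _
  have hnil := EndRep.sub_one_pow_eq_zero p ρ (ThmC1.pow_eq_one_of_mem P hP hx)
  have hnil2 := EndRep.linHom_sub_one_pow ρ (c := p - 1) hnil (by omega)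
  have htr := TI.sum_zpowers p (Representation.linHom ρ ρ) x hxo hnil2
  have h2k : (2 : k) ≠ 0 := by
    intro h
    have h1 : ((2 : ℕ) : k) = 0 := by exact_mod_cast h
    rw [CharP.cast_eq_zero_iff k p] at h1
    exact hp2 ((Nat.prime_dvd_prime_iff_eq hp Nat.prime_two).1 h1)
  have hν0 : (ρ x - 1 : Module.End k V) ≠ 0 := by
    intro h
    apply hx1
    apply hρ
    rw [map_one]
    exact sub_eq_zero.1 h
  set ν : Module.End k V := ρ x - 1 with hν
  set A : Module.End k V := ρ x with hA
  have hAν : Commute A ν := by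
    rw [hν]
    exact (Commute.refl A).sub_right (Commute.one_right A)
  obtain ⟨q, hq, hs⟩ := exists_weight p ρ hcard hα
  rw [← hν] at hq hs
  obtain ⟨z₁, hz₁⟩ := Nil.exists_double_bracket h2k ν ⟨_, hnil⟩
  have hp1 := hp.one_lt
  obtain ⟨c, hc, hcq⟩ := Nil2.exists_trace_ne_zero p (by omega) ν ⟨_, hnil⟩ hν0
  set s : Module.End k V := ν + ν ^ 2 * q with hsdef
  have hAinv : A * ρ x⁻¹ = 1 := by rw [hA, ← map_mul, mul_inv_cancel, map_one]
  have hAs : Commute A s := by
    have hqA : Commute A q := by
      have h1 : A = ν + 1 := by rw [hν]; abel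
      rw [h1]
      exact hq.symm.add_left (Commute.one_left _)
    exact hAν.add_right ((hAν.pow_right 2).mul_right hqA)
  have hxs : (Representation.linHom ρ ρ x - 1 : Module.End k (Module.End k V)) s = 0 := by
    show A * (s * ρ x⁻¹) - s = 0
    rw [← mul_assoc, hAs.eq, mul_assoc, hAinv, mul_one, sub_self]
  have hz₀ : ((Representation.linHom ρ ρ x - 1 : Module.End k (Module.End k V)) ^ 2)
      ((1 + ν * q) * z₁ * (A * A)) = s := by
    rw [(ThmC1.delta_pow ρ x _).1, ← hA, ← hν]
    have hνq : Commute ν (1 + ν * q) :=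
      (Commute.one_right ν).add_right ((Commute.refl ν).mul_right hq.symm)
    have hAA : Commute ν (A * A) := hAν.symm.mul_right hAν.symm
    set Q := 1 + ν * q with hQ
    have h2 : ∀ w : Module.End k V, ν * (Q * w * (A * A)) - Q * w * (A * A) * ν =
        Q * (ν * w - w * ν) * (A * A) := by
      intro w
      have e1 : ν * (Q * w * (A * A)) = Q * (ν * w) * (A * A) := by
        rw [mul_assoc Q w, ← mul_assoc ν Q, hνq.eq]
        simp only [mul_assoc]
      have e2 : Q * w * (A * A) * ν = Q * (w * ν) * (A * A) := by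
        rw [mul_assoc (Q * w), ← hAA.eq]
        simp only [mul_assoc]
      rw [e1, e2, ← sub_mul, ← mul_sub]
    rw [h2, h2, hz₁, mul_assoc]
    have h3 : A * A * (ρ x⁻¹ * ρ x⁻¹) = 1 := by
      rw [mul_assoc, ← mul_assoc A (ρ x⁻¹), hAinv, one_mul, hAinv]
    rw [h3, mul_one, hQ, hsdef, add_mul, one_mul, mul_assoc, hq.eq, ← mul_assoc, sq]
  obtain ⟨z, φ, hz, hzα, hφ, hφs, hφα⟩ := Triple.exists_adjusted p (Representation.linHom ρ ρ)
    hcard hα hxs hs hz₀ (LinearMap.trace k V ∘ₗ LinearMap.mulLeft k c)
    (fun m => trace_delta_cube ρ x c hc m) (hcq q hq)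
  obtain ⟨e, hee, hxe, hN₁e, hespan, hez, heΔ, hes⟩ := Triple.exists_idempotent
    (Representation.linHom ρ ρ) hα hxs hs hz hzα φ hφ hφs hφα
  have heN : ∀ g ∈ Subgroup.normalizer ((P : Subgroup D) : Set D),
      Commute (Representation.linHom ρ ρ g) e := by
    intro g hg
    let S : Subgroup D :=
      { carrier := {g | Commute (Representation.linHom ρ ρ g) e}
        mul_mem' := fun {a b} ha hb => by
          show Commute (Representation.linHom ρ ρ (a * b)) e
          rw [map_mul]
          exact Commute.mul_left ha hb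
        one_mem' := by
          show Commute (Representation.linHom ρ ρ 1) e
          rw [map_one]
          exact Commute.one_left _
        inv_mem' := fun {a} ha => by
          have ha' : Commute (Representation.linHom ρ ρ a) e := ha
          show Representation.linHom ρ ρ a⁻¹ * e = e * Representation.linHom ρ ρ a⁻¹
          have h1 : Representation.linHom ρ ρ a * Representation.linHom ρ ρ a⁻¹ = 1 := by
            rw [← map_mul, mul_inv_cancel, map_one]
          have h2 : Representation.linHom ρ ρ a⁻¹ * Representation.linHom ρ ρ a = 1 := by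
            rw [← map_mul, inv_mul_cancel, map_one]
          calc Representation.linHom ρ ρ a⁻¹ * e
              = Representation.linHom ρ ρ a⁻¹ * (e *
                (Representation.linHom ρ ρ a * Representation.linHom ρ ρ a⁻¹)) := by
                  rw [h1, mul_one]
            _ = Representation.linHom ρ ρ a⁻¹ * (e * Representation.linHom ρ ρ a) *
                  Representation.linHom ρ ρ a⁻¹ := by simp only [mul_assoc]
            _ = Representation.linHom ρ ρ a⁻¹ * (Representation.linHom ρ ρ a * e) *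
                  Representation.linHom ρ ρ a⁻¹ := by rw [ha'.eq]
            _ = (Representation.linHom ρ ρ a⁻¹ * Representation.linHom ρ ρ a) * e *
                  Representation.linHom ρ ρ a⁻¹ := by simp only [mul_assoc]
            _ = e * Representation.linHom ρ ρ a⁻¹ := by rw [h2, one_mul] }
    have hle : Subgroup.zpowers x ⊔ N₁ ≤ S := by
      refine sup_le ?_ fun g hg => hN₁e g hg
      rw [Subgroup.zpowers_le]
      exact hxe
    rw [hN] at hg
    exact hle hg
  obtain ⟨u, f, huN, hfD, hff, huf⟩ := Summand.exists_summand (Representation.linHom ρ ρ)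
    (Subgroup.zpowers x) (Subgroup.normalizer ((P : Subgroup D) : Set D))
    (Subgroup.mem_zpowers x) le_rfl (by rw [hPx]; exact Subgroup.le_normalizer)
    (by
      intro g hg y hy hyg
      rw [hPx] at hy
      exact EndRep.ti_of_card p P hP g hg y hy hyg) htr hnil2 e hee heN
  have hPN : Subgroup.zpowers x ≤ Subgroup.normalizer ((P : Subgroup D) : Set D) := by
    rw [hPx]; exact Subgroup.le_normalizer
  have hfu : ∀ m : Module.End k V, f ((u : Module.End k (Module.End k V)) m) =
      (u : Module.End k (Module.End k V)) (e m) := by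
    intro m
    exact (congrArg (fun T : Module.End k (Module.End k V) => T m) huf).symm
  let σ : Subrepresentation (Representation.linHom ρ ρ) :=
    { toSubmodule := LinearMap.range f
      apply_mem_toSubmodule := fun g w hw => by
        obtain ⟨m, rfl⟩ := hw
        refine ⟨Representation.linHom ρ ρ g m, ?_⟩
        exact (congrArg (fun T : Module.End k (Module.End k V) => T m) (hfD g).eq).symm }
  have hmem : ∀ m, (u : Module.End k (Module.End k V)) (e m) ∈ σ.toSubmodule := fun m =>
    ⟨(u : Module.End k (Module.End k V)) m, hfu m⟩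
  have hσ : ∀ (g : D) (w : σ.toSubmodule),
      (σ.toRepresentation g w : Module.End k V) = Representation.linHom ρ ρ g w := fun g w => rfl
  have hσΔ : ∀ (w : σ.toSubmodule),
      (((σ.toRepresentation x - 1 : Module.End k σ.toSubmodule) w : σ.toSubmodule) :
        Module.End k V) = (Representation.linHom ρ ρ x - 1 : Module.End k (Module.End k V)) w :=
    fun w => rfl
  have huΔ : ∀ m, (Representation.linHom ρ ρ x - 1 : Module.End k (Module.End k V))
      ((u : Module.End k (Module.End k V)) m) = (u : Module.End k (Module.End k V))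
      ((Representation.linHom ρ ρ x - 1 : Module.End k (Module.End k V)) m) := by
    intro m
    have h1 : Commute (Representation.linHom ρ ρ x - 1 : Module.End k (Module.End k V))
        (u : Module.End k (Module.End k V)) :=
      (huN x (hPN (Subgroup.mem_zpowers x))).sub_left (Commute.one_left _)
    exact congrArg (fun T : Module.End k (Module.End k V) => T m) h1.eq
  let v : σ.toSubmodule := ⟨(u : Module.End k (Module.End k V)) z, by
    have := hmem z
    rwa [hez] at this⟩
  set Δ' : Module.End k σ.toSubmodule := σ.toRepresentation x - 1 with hΔ'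
  set Δ : Module.End k (Module.End k V) := Representation.linHom ρ ρ x - 1 with hΔ
  have hv1 : ((Δ' v : σ.toSubmodule) : Module.End k V) =
      (u : Module.End k (Module.End k V)) (Δ z) := by
    rw [hσΔ]
    exact huΔ z
  have hv2 : (((Δ' ^ 2) v : σ.toSubmodule) : Module.End k V) =
      (u : Module.End k (Module.End k V)) s := by
    rw [sq, Module.End.mul_apply, hσΔ, hv1, huΔ, ← hz, sq, Module.End.mul_apply]
  have hv3 : (((Δ' ^ 3) v : σ.toSubmodule) : Module.End k V) = 0 := by
    rw [pow_succ', Module.End.mul_apply, hσΔ, hv2, huΔ, hxs, map_zero]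
  have hs0 : s ≠ 0 := by
    intro h
    apply hφs
    rw [h, map_zero]
  refine ⟨σ, v, ?_, ?_, ?_, ?_⟩
  · exact Subtype.ext hv3
  · intro h
    have h1 := congrArg Subtype.val h
    rw [hv2] at h1
    apply hs0
    have h2 := congrArg ((u⁻¹ : (Module.End k (Module.End k V))ˣ) : Module.End k (Module.End k V)) h1
    have h3 : ((u⁻¹ : (Module.End k (Module.End k V))ˣ) : Module.End k (Module.End k V))
        ((u : Module.End k (Module.End k V)) s) = s := by
      rw [← Module.End.mul_apply, Units.inv_mul, Module.End.one_apply]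
    rw [h3] at h2
    rw [h2]
    exact map_zero _
  · intro w
    obtain ⟨m, hm⟩ := w.2
    -- `w = u (e m')`
    have h1 : ∃ m', (u : Module.End k (Module.End k V)) (e m') = (w : Module.End k V) := by
      refine ⟨((u⁻¹ : (Module.End k (Module.End k V))ˣ) : Module.End k (Module.End k V)) m, ?_⟩
      rw [← hfu, ← Module.End.mul_apply (u : Module.End k (Module.End k V)), Units.mul_inv,
        Module.End.one_apply]
      exact hm
    obtain ⟨m', hm'⟩ := h1
    have h2 := hespan m'
    rw [Submodule.mem_span_insert] at h2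
    obtain ⟨a, y, hy, h3⟩ := h2
    rw [Submodule.mem_span_pair] at hy
    obtain ⟨b, d, hbd⟩ := hy
    have h4 : w = a • v + (b • Δ' v + d • (Δ' ^ 2) v) := by
      apply Subtype.ext
      rw [Submodule.coe_add, Submodule.coe_add, Submodule.coe_smul, Submodule.coe_smul,
        Submodule.coe_smul, hv1, hv2, ← hm', h3, ← hbd, map_add, map_add, map_smul, map_smul,
        map_smul]
    rw [h4]
    refine Submodule.add_mem _ (Submodule.smul_mem _ _ (Submodule.subset_span (Or.inl rfl)))
      (Submodule.add_mem _ (Submodule.smul_mem _ _ (Submodule.subset_span (Or.inr (Or.inl rfl))))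
        (Submodule.smul_mem _ _ (Submodule.subset_span (Or.inr (Or.inr rfl)))))
  · intro g
    apply Subtype.ext
    rw [hσ, Submodule.coe_smul]
    show Representation.linHom ρ ρ g ((u : Module.End k (Module.End k V)) z) =
      α g⁻¹ • (u : Module.End k (Module.End k V)) z
    have hgN : (g : D) ∈ Subgroup.normalizer ((P : Subgroup D) : Set D) := by
      rw [hN]
      exact (le_sup_right : N₁ ≤ _) g.2
    have h1 := congrArg (fun T : Module.End k (Module.End k V) => T z) (huN g hgN).eq
    have h2 : Representation.linHom ρ ρ g ((u : Module.End k (Module.End k V)) z) =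
      (u : Module.End k (Module.End k V)) (Representation.linHom ρ ρ g z) := h1
    rw [h2, hzα, map_smul]

end

end Cfsg.Agent.LieRecognition.FT61.ThmC2
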