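import Mathlib
import Cfsg.Agent.LieRecognition.FT61.ThmC2
import Cfsg.Agent.LieRecognition.FT61.O3
import Cfsg.Agent.LieRecognition.FT61.Form

/-!
# Theorem C

`D` of odd order with Sylow `p`-subgroup `P` of order `p`, faithful in characteristic `p` and degree
`< p / 2`: then `P` is normal.
-/

set_option autoImplicit false

namespace Cfsg.Agent.LieRecognition.FT61.ThmC

open Finset Module

/-- If `p < 7` an odd order group normalising a subgroup of order `p` centralises it. -/
theorem commute_of_lt_seven {D : Type*} [Group D] [Finite D] {p : ℕ} (hp : p.Prime)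
    (hp7 : p < 7) (hodd : Odd (Nat.card D)) {x g : D} (hx : orderOf x = p) {a : ℕ}
    (ha : g * x * g⁻¹ = x ^ a) : g * x = x * g := by
  have : Fact p.Prime := ⟨hp⟩
  have h1 : ∀ j : ℕ, g ^ j * x * (g ^ j)⁻¹ = x ^ (a ^ j) := by
    intro j
    induction j with
    | zero => simp
    | succ j ih =>
      rw [pow_succ, pow_succ]
      calc g ^ j * g * x * (g ^ j * g)⁻¹ = g ^ j * (g * x * g⁻¹) * (g ^ j)⁻¹ := by group
        _ = (g ^ j * x * (g ^ j)⁻¹) ^ a := by rw [ha, conj_pow]
        _ = x ^ (a ^ j * a) := by rw [ih, ← pow_mul]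
  have h2 : ((a : ℕ) : ZMod p) ^ Nat.card D = 1 := by
    have h3 := h1 (Nat.card D)
    rw [pow_card_eq_one', one_mul, inv_one, mul_one] at h3
    have h4 : x ^ 1 = x ^ (a ^ Nat.card D) := by rw [pow_one]; exact h3
    have h5 := pow_eq_pow_iff_modEq.1 h4
    rw [hx] at h5
    have h6 := (ZMod.natCast_eq_natCast_iff _ _ _).2 h5
    push_cast at h6
    exact h6.symm
  have ha0 : ((a : ℕ) : ZMod p) ≠ 0 := by
    intro h
    rw [h, zero_pow (Nat.card_pos (α := D)).ne'] at h2
    exact zero_ne_one h2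
  have h3 : ((a : ℕ) : ZMod p) ^ (p - 1) = 1 := ZMod.pow_card_sub_one_eq_one ha0
  have h4 : orderOf ((a : ℕ) : ZMod p) ∣ Nat.gcd (Nat.card D) (p - 1) :=
    Nat.dvd_gcd (orderOf_dvd_of_pow_eq_one h2) (orderOf_dvd_of_pow_eq_one h3)
  have h5 : Nat.gcd (Nat.card D) (p - 1) = 1 := by
    have h6 : (p - 1) ∣ 2 ^ 2 := by
      interval_cases p <;> first | decide | (exfalso; revert hp; decide)
    have h7 : Nat.Coprime (Nat.card D) (2 ^ 2) :=
      Nat.Coprime.pow_right 2 (Nat.coprime_two_right.2 hodd)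
    exact Nat.Coprime.coprime_dvd_right h6 h7
  rw [h5, Nat.dvd_one, orderOf_eq_one_iff] at h4
  have h6 : a ≡ 1 [MOD p] := by
    rw [← ZMod.natCast_eq_natCast_iff]
    simpa using h4
  have h7 : x ^ a = x ^ 1 := pow_eq_pow_iff_modEq.2 (by rw [hx]; exact h6)
  rw [h7, pow_one, mul_inv_eq_iff_eq_mul] at ha
  exact ha

section

variable {k D : Type*} [Field k] [Group D] [Finite D]

/-- The conclusion from a normaliser statement. -/
theorem normal_of_conj_mem (p : ℕ) [Fact p.Prime] (P : Sylow p D) (hP : Nat.card P = p) {x : D}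
    (hx : x ∈ (P : Subgroup D)) (hx1 : x ≠ 1)
    (h : ∀ g : D, g * x * g⁻¹ ∈ Subgroup.normalizer ((P : Subgroup D) : Set D)) :
    (P : Subgroup D).Normal := by
  rw [← Subgroup.normalizer_eq_top_iff, eq_top_iff]
  intro g _
  by_contra hg
  apply hx1
  refine EndRep.ti_of_card p P hP g hg x hx ?_
  simpa using h g⁻¹

/-- Lifting a normal Sylow subgroup of order `p` of a quotient. -/
theorem exists_normal_of_quotient (p : ℕ) [Fact p.Prime] (P : Sylow p D) (hP : Nat.card P = p)
    {x : D} (hx : x ∈ (P : Subgroup D)) (K : Subgroup D) [K.Normal] (hxK : x ∉ K)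
    (h : ∀ P' : Sylow p (D ⧸ K), Nat.card P' = p → (P' : Subgroup (D ⧸ K)).Normal) :
    ∃ H : Subgroup D, H.Normal ∧ (P : Subgroup D) ≤ H ∧ ∀ g ∈ H,
      g ∈ Subgroup.normalizer ((P : Subgroup D) : Set D) → g * x = x * g := by
  classical
  have hx1 : x ≠ 1 := by
    rintro rfl
    exact hxK K.one_mem
  have hPx := ThmC1.zpowers_eq P hP hx hx1
  have hPK : ∀ y ∈ (P : Subgroup D), y ∈ K → y = 1 := by
    intro y hy hyK
    by_contra hy1
    have h1 := ThmC1.zpowers_eq P hP hy hy1
    rw [← h1] at hx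
    exact hxK ((Subgroup.zpowers_le.2 hyK) hx)
  have hP'card : Nat.card (P.mapSurjective (QuotientGroup.mk'_surjective K)) = p := by
    have h1 : Nat.card ((P : Subgroup D).map (QuotientGroup.mk' K)) = Nat.card (P : Subgroup D) := by
      refine (Nat.card_congr (Equiv.ofBijective (fun y : (P : Subgroup D) =>
        (⟨QuotientGroup.mk' K y, Subgroup.mem_map_of_mem _ y.2⟩ :
          (P : Subgroup D).map (QuotientGroup.mk' K))) ⟨?_, ?_⟩)).symm
      · intro y z hyz
        have h2 : (QuotientGroup.mk' K) (y : D) = QuotientGroup.mk' K z := congrArg Subtype.val hyz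
        have h3 : (y : D)⁻¹ * z ∈ K := QuotientGroup.eq.1 h2
        have h4 := hPK _ ((P : Subgroup D).mul_mem ((P : Subgroup D).inv_mem y.2) z.2) h3
        exact Subtype.ext (inv_mul_eq_one.1 h4)
      · rintro ⟨_, y, hy, rfl⟩
        exact ⟨⟨y, hy⟩, rfl⟩
    exact h1.trans hP
  have hnormal := h _ hP'card
  refine ⟨(P.mapSurjective (QuotientGroup.mk'_surjective K) : Subgroup (D ⧸ K)).comap
    (QuotientGroup.mk' K), hnormal.comap _, ?_, ?_⟩
  · intro y hy
    exact Subgroup.mem_map_of_mem (QuotientGroup.mk' K) hy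
  · intro g hg hgN
    obtain ⟨y, hy, hyg⟩ := hg
    have hyx : y * x = x * y := by
      rw [SetLike.mem_coe, ← hPx] at hy
      obtain ⟨n, rfl⟩ := hy
      exact ((Commute.refl x).zpow_left n).eq
    have h1 : g * x * g⁻¹ ∈ (P : Subgroup D) := ((Subgroup.mem_normalizer_iff.1 hgN) x).1 hx
    have h2 : g * x * g⁻¹ * x⁻¹ ∈ K := by
      rw [← QuotientGroup.eq_one_iff]
      have h3 : ((g * x * g⁻¹ * x⁻¹ : D) : D ⧸ K) = QuotientGroup.mk' K (g * x * g⁻¹ * x⁻¹) := rfl
      rw [h3, map_mul, map_mul, map_mul, ← hyg, map_inv, map_inv, ← hyg, ← map_mul, hyx, map_mul]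
      group
    have h4 := hPK _ ((P : Subgroup D).mul_mem h1 ((P : Subgroup D).inv_mem hx)) h2
    rw [mul_inv_eq_one, mul_inv_eq_iff_eq_mul] at h4
    exact h4

/-- The quotient by the kernel of a representation in `O₃`. -/
theorem exists_normal_of_rep {U : Type*} [AddCommGroup U] [Module k U] (p : ℕ) [Fact p.Prime]
    [CharP k p] (hp2 : p ≠ 2) (σ : Representation k D U) (hfr : finrank k U = 3)
    (β : LinearMap.BilinForm k U) (hsymm : β.IsSymm) (hnd : β.Nondegenerate)
    (hβ : ∀ (g : D) (u w : U), β (σ g u) (σ g w) = β u w) (hodd : Odd (Nat.card D))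
    (P : Sylow p D) (hP : Nat.card P = p) {x : D} (hx : x ∈ (P : Subgroup D)) (hxσ : σ x ≠ 1) :
    ∃ H : Subgroup D, H.Normal ∧ (P : Subgroup D) ≤ H ∧ ∀ g ∈ H,
      g ∈ Subgroup.normalizer ((P : Subgroup D) : Set D) → g * x = x * g := by
  let K : Subgroup D := MonoidHom.ker σ
  let τ : Representation k (D ⧸ K) U := QuotientGroup.lift K σ le_rfl
  have hτ : ∀ g : D, τ (g : D ⧸ K) = σ g := fun g => rfl
  have hτi : Function.Injective τ := by
    intro a b hab
    obtain ⟨a, rfl⟩ := QuotientGroup.mk_surjective a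
    obtain ⟨b, rfl⟩ := QuotientGroup.mk_surjective b
    rw [hτ, hτ] at hab
    refine QuotientGroup.eq.2 ?_
    show σ (a⁻¹ * b) = 1
    rw [map_mul, ← hab, ← map_mul, inv_mul_cancel, map_one]
  refine exists_normal_of_quotient p P hP hx K (fun h => hxσ h) ?_
  intro P' hP'
  refine O3.normal_of_orthogonal_three p hp2 hfr β hsymm hnd τ hτi ?_
    (hodd.of_dvd_nat (Subgroup.card_quotient_dvd_card _)) P' hP'
  intro g u w
  obtain ⟨g, rfl⟩ := QuotientGroup.mk_surjective g
  exact hβ g u w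

end

section

variable {k V D : Type*} [Field k] [AddCommGroup V] [Module k V] [FiniteDimensional k V] [Group D]
  [Finite D]

theorem exists_normal (p : ℕ) [Fact p.Prime] [CharP k p]
    (ρ : Representation k D V) (hρ : Function.Injective ρ) (hodd : Odd (Nat.card D)) (hp2 : p ≠ 2)
    (hdim : 2 * Module.finrank k V < p) (P : Sylow p D) (hP : Nat.card P = p) {x : D}
    (hx : x ∈ (P : Subgroup D)) (hx1 : x ≠ 1)
    (hcent : ¬ ∀ g ∈ Subgroup.normalizer ((P : Subgroup D) : Set D), g * x = x * g) :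
    ∃ H : Subgroup D, H.Normal ∧ (P : Subgroup D) ≤ H ∧ ∀ g ∈ H,
      g ∈ Subgroup.normalizer ((P : Subgroup D) : Set D) → g * x = x * g := by
  have hp : p.Prime := Fact.out
  have hPx := ThmC1.zpowers_eq P hP hx hx1
  have hxo : orderOf x = p := orderOf_eq_prime (ThmC1.pow_eq_one_of_mem P hP hx) hx1
  obtain ⟨N₁, hcard, hN₁, hN⟩ := ThmC2.exists_complement P hP hx hx1
  obtain ⟨α, hα⟩ := Triple.exists_alpha (k := k) p hxo N₁ hN₁
  have hp7 : 7 ≤ p := by
    by_contra hlt
    apply hcent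
    intro g hg
    have h1 : g * x * g⁻¹ ∈ (P : Subgroup D) := ((Subgroup.mem_normalizer_iff.1 hg) x).1 hx
    rw [← hPx] at h1
    obtain ⟨a, ha⟩ := mem_powers_iff_mem_zpowers.2 h1
    exact commute_of_lt_seven hp (not_le.1 hlt) hodd hxo ha.symm
  obtain ⟨σ, v, hv3, hv2, hspan, hvα⟩ := ThmC2.exists_sub p ρ hρ hp2 hdim P hP hx hx1 hcard hα hN
  obtain ⟨hfr, β, hsymm, hnd, hβ⟩ := Form.exists_form p hp7 σ.toRepresentation hxo N₁ hα
    (Subgroup.normalizer ((P : Subgroup D) : Set D)) hN (by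
      intro g hg y hy hyg
      rw [hPx] at hy
      exact EndRep.ti_of_card p P hP g hg y hy hyg) v hv3 hv2 hspan hvα
  refine exists_normal_of_rep p hp2 σ.toRepresentation hfr β hsymm hnd hβ hodd P hP hx ?_
  intro h
  apply hv2
  have h1 : (σ.toRepresentation x - 1 : Module.End k σ.toSubmodule) = 0 := sub_eq_zero.2 h
  rw [h1, zero_pow two_ne_zero, LinearMap.zero_apply]

theorem normal_of_small_degree {k V D : Type*} [Field k] [AddCommGroup V] [Module k V]
    [FiniteDimensional k V] [Group D] [Finite D] (p : ℕ) [Fact p.Prime] [CharP k p]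
    (ρ : Representation k D V) (hρ : Function.Injective ρ) (hodd : Odd (Nat.card D))
    (hdim : 2 * Module.finrank k V < p) (P : Sylow p D) (hP : Nat.card P = p) :
    (P : Subgroup D).Normal := by
  classical
  have hp : p.Prime := Fact.out
  have hp2 : p ≠ 2 := by
    rintro rfl
    have h1 : 2 ∣ Nat.card D := by
      rw [← hP]
      exact Subgroup.card_subgroup_dvd_card (P : Subgroup D)
    rw [← Nat.not_even_iff_odd] at hodd
    exact hodd (even_iff_two_dvd.2 h1)
  obtain ⟨x, hx, hx1⟩ : ∃ x ∈ (P : Subgroup D), x ≠ 1 := by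
    by_contra hcon
    push Not at hcon
    have h1 : (P : Subgroup D) = ⊥ := (Subgroup.eq_bot_iff_forall _).2 hcon
    have h2 : Nat.card (P : Subgroup D) = 1 := by rw [h1]; simp
    have h3 : Nat.card (P : Subgroup D) = p := hP
    rw [h2] at h3
    exact hp.one_lt.ne h3
  have hPx := ThmC1.zpowers_eq P hP hx hx1
  by_cases hcent : ∀ g ∈ Subgroup.normalizer ((P : Subgroup D) : Set D), g * x = x * g
  · have h1 := ThmC1.central_of_le p ρ hρ hdim P hP hx hcent
    apply normal_of_conj_mem p P hP hx hx1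
    intro g
    rw [h1 g, mul_inv_cancel_right]
    exact Subgroup.le_normalizer hx
  obtain ⟨H, hHn, hPH, hcomm⟩ := exists_normal p ρ hρ hodd hp2 hdim P hP hx hx1 hcent
  -- apply the first case to `H`
  have hcentH : ∀ g ∈ H, g * x = x * g := by
    let PH : Sylow p H := P.subtype hPH
    have hPHcoe : (PH : Subgroup H) = (P : Subgroup D).subgroupOf H := rfl
    have hPHcard : Nat.card PH = p :=
      (Nat.card_congr (Subgroup.subgroupOfEquivOfLe hPH).toEquiv).trans hP
    have hxH : x ∈ H := hPH hx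
    intro g hg
    have h1 := ThmC1.central_of_le p (MonoidHom.comp ρ H.subtype) (hρ.comp H.subtype_injective) hdim PH
      hPHcard (x := ⟨x, hxH⟩) hx (by
        intro g hgN
        apply Subtype.ext
        refine hcomm g g.2 ?_
        rw [Subgroup.mem_normalizer_iff]
        intro y
        constructor
        · intro hy
          exact ((Subgroup.mem_normalizer_iff.1 hgN) ⟨y, hPH hy⟩).1 hy
        · intro hy
          have hyH : y ∈ H := by
            have h2 := hHn.conj_mem _ (hPH hy) (g : D)⁻¹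
            simpa [mul_assoc] using h2
          exact ((Subgroup.mem_normalizer_iff.1 hgN) ⟨y, hyH⟩).2 hy) ⟨g, hg⟩
    exact congrArg Subtype.val h1
  apply normal_of_conj_mem p P hP hx hx1
  intro g
  have h1 : g * x * g⁻¹ ∈ H := hHn.conj_mem x (hPH hx) g
  have h2 := hcentH _ h1
  -- commuting with `x` implies normalising `P`
  rw [Subgroup.mem_normalizer_iff]
  have h3 : ∀ y ∈ (P : Subgroup D), (g * x * g⁻¹) * y * (g * x * g⁻¹)⁻¹ = y := by
    intro y hy
    rw [← hPx] at hy
    obtain ⟨n, rfl⟩ := hy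
    have h4 : Commute (g * x * g⁻¹) (x ^ n) := (show Commute (g * x * g⁻¹) x from h2).zpow_right n
    show g * x * g⁻¹ * x ^ n * (g * x * g⁻¹)⁻¹ = x ^ n
    rw [h4.eq, mul_inv_cancel_right]
  intro y
  constructor
  · intro hy
    rw [h3 y hy]
    exact hy
  · intro hy
    have h4 := h3 _ hy
    have h5 : g * x * g⁻¹ * y * (g * x * g⁻¹)⁻¹ = y := by
      have h6 := mul_left_cancel (mul_right_cancel h4)
      exact h6
    rwa [h5] at hy

end

end Cfsg.Agent.LieRecognition.FT61.ThmC
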