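import Cfsg.Agent.LieRecognition.FT61.ThmA
import Cfsg.Agent.LieRecognition.FT61.ThmC

/-!
# Odd-order groups transitive on the nonzero vectors of an elementary abelian group are solvable

(without the odd order theorem)
-/

set_option autoImplicit false

namespace Cfsg.Agent.LieRecognition.FT61.Main

/-- **Main theorem**: a group of odd order acting faithfully on a finite elementary abelian group and
transitively on its nonzero elements is solvable. The proof does not use the odd order theorem. -/
theorem isSolvable {D E : Type*} [Group D] [Finite D]
    [AddCommGroup E] [Finite E] [Nontrivial E] [DistribMulAction D E] [FaithfulSMul D E]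
    (hodd : Odd (Nat.card D)) {q : ℕ} (hq : q.Prime) (hE : ∀ e : E, q • e = 0)
    (htrans : ∀ a b : E, a ≠ 0 → b ≠ 0 → ∃ d : D, d • a = b) : Group.IsSolvable D :=
  ThmA.isSolvable hodd hq hE htrans (fun p _ P _ _ _ _ ρ hρ hd hP =>
    ThmC.normal_of_small_degree p ρ hρ hodd hd P hP)

end Cfsg.Agent.LieRecognition.FT61.Main
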