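import Mathlib

/-!
Group-theoretic facts on a finite group in which the centraliser of every element of order `p` is cyclic.
-/

set_option autoImplicit false
set_option linter.style.haveILetI false
set_option linter.unusedSectionVars false

namespace Cfsg.Agent.LieRecognition.FT61.Grp

variable {D : Type*} [Group D] [Finite D] {p : ℕ} [hp : Fact p.Prime]

/-- A `p`-element commuting with a Sylow `p`-subgroup lies in it. -/
theorem mem_sylow_of_commute (P : Sylow p D) {x : D} (hx : IsPGroup p (Subgroup.zpowers x))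
    (hc : ∀ y ∈ (P : Subgroup D), x * y = y * x) : x ∈ (P : Subgroup D) := by
  have h1 : Subgroup.zpowers x ≤ Subgroup.normalizer ((P : Subgroup D) : Set D) := by
    rw [Subgroup.zpowers_le, Subgroup.mem_normalizer_iff]
    intro h
    constructor
    · intro hh
      have : x * h * x⁻¹ = h := by rw [hc h hh]; group
      rwa [this]
    · intro hh
      have h2 := hc _ hh
      have h3 : h = x * h * x⁻¹ := by
        have h4 : x * (x * h * x⁻¹) * x⁻¹ = x * h * x⁻¹ := by rw [h2]; group
        have h5 := congrArg (fun z => x⁻¹ * z * x) h4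
        have h6 : x⁻¹ * (x * (x * h * x⁻¹) * x⁻¹) * x = x * h * x⁻¹ := by group
        have h7 : x⁻¹ * (x * h * x⁻¹) * x = h := by group
        change x⁻¹ * (x * (x * h * x⁻¹) * x⁻¹) * x = x⁻¹ * (x * h * x⁻¹) * x at h5
        rw [h6, h7] at h5
        exact h5.symm
      rw [h3]
      exact hh
  have h2 := IsPGroup.to_sup_of_normal_right' hx P.isPGroup' h1
  have h3 := P.is_maximal' h2 le_sup_right
  rw [← h3]
  exact (le_sup_left : Subgroup.zpowers x ≤ _) (Subgroup.mem_zpowers x)

theorem isPGroup_zpowers {x : D} {P : Subgroup D} (hP : IsPGroup p P) (hx : x ∈ P) :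
    IsPGroup p (Subgroup.zpowers x) :=
  hP.to_le (by rwa [Subgroup.zpowers_le])

/-- Conjugates of elements generating `p`-groups generate `p`-groups. -/
theorem isPGroup_zpowers_conj {x : D} (hx : IsPGroup p (Subgroup.zpowers x)) (g : D) :
    IsPGroup p (Subgroup.zpowers (g * x * g⁻¹)) := by
  rw [IsPGroup.iff_card] at hx ⊢
  obtain ⟨n, hn⟩ := hx
  refine ⟨n, ?_⟩
  rw [Nat.card_zpowers] at hn ⊢
  rw [← hn]
  have : g * x * g⁻¹ = MulAut.conj g x := rfl
  rw [this]
  exact orderOf_injective (MulAut.conj g).toMonoidHom (MulAut.conj g).injective x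

/-- A Sylow `p`-subgroup contained in a normal commutative subgroup is normal. -/
theorem normal_of_le_comm (P : Sylow p D) (C : Subgroup D) (hCn : C.Normal)
    (hC : ∀ x ∈ C, ∀ y ∈ C, x * y = y * x) (hPC : (P : Subgroup D) ≤ C) :
    (P : Subgroup D).Normal := by
  refine ⟨fun x hx g => ?_⟩
  apply mem_sylow_of_commute P (isPGroup_zpowers_conj (isPGroup_zpowers P.isPGroup' hx) g)
  intro y hy
  exact hC _ (hCn.conj_mem x (hPC hx) g) y (hPC hy)

/-- If centralisers of elements of order `p` are cyclic, so are the Sylow `p`-subgroups; moreover a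
nontrivial Sylow subgroup lies in the centraliser of an element of order `p` in it. -/
theorem exists_central_orderOf (P : Sylow p D) (hne : (P : Subgroup D) ≠ ⊥) :
    ∃ z ∈ (P : Subgroup D), orderOf z = p ∧ ∀ y ∈ (P : Subgroup D), z * y = y * z := by
  haveI : Nontrivial (P : Subgroup D) := (Subgroup.nontrivial_iff_ne_bot _).2 hne
  haveI := P.isPGroup'.center_nontrivial
  have h1 : p ∣ Nat.card (Subgroup.center (P : Subgroup D)) := by
    have h2 : IsPGroup p (Subgroup.center (P : Subgroup D)) := P.isPGroup'.to_subgroup _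
    obtain ⟨n, hn⟩ := (IsPGroup.iff_card).1 h2
    have h3 : n ≠ 0 := by
      rintro rfl
      rw [pow_zero] at hn
      have := Finite.one_lt_card (α := Subgroup.center (P : Subgroup D))
      omega
    rw [hn]
    exact dvd_pow_self p h3
  obtain ⟨z, hz⟩ := exists_prime_orderOf_dvd_card' p h1
  refine ⟨((z : (P : Subgroup D)) : D), (z : (P : Subgroup D)).2, ?_, ?_⟩
  · rw [Subgroup.orderOf_coe, Subgroup.orderOf_coe, hz]
  · intro y hy
    have := Subgroup.mem_center_iff.1 z.2 ⟨y, hy⟩
    exact (congrArg Subtype.val this).symm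

theorem isCyclic_sylow (hcyc : ∀ z : D, orderOf z = p → IsCyclic (Subgroup.centralizer ({z} : Set D)))
    (P : Sylow p D) (hne : (P : Subgroup D) ≠ ⊥) : IsCyclic (P : Subgroup D) := by
  obtain ⟨z, -, hz, hc⟩ := exists_central_orderOf P hne
  haveI := hcyc z hz
  have hle : (P : Subgroup D) ≤ Subgroup.centralizer ({z} : Set D) := by
    intro y hy
    exact Subgroup.mem_centralizer_singleton_iff.2 (hc y hy).symm
  exact isCyclic_of_injective (Subgroup.inclusion hle) (Subgroup.inclusion_injective hle)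

theorem comm_of_isCyclic {H : Subgroup D} (h : IsCyclic H) : ∀ x ∈ H, ∀ y ∈ H, x * y = y * x := by
  intro x hx y hy
  letI := IsCyclic.commGroup (α := H)
  exact congrArg Subtype.val (mul_comm (⟨x, hx⟩ : H) ⟨y, hy⟩)

/-- Elements of order `p` in a cyclic subgroup generate the same subgroup. -/
theorem zpowers_eq_of_orderOf {H : Subgroup D} (h : IsCyclic H) {x y : D} (hx : x ∈ H) (hy : y ∈ H)
    (hxy : orderOf x = orderOf y) : Subgroup.zpowers x = Subgroup.zpowers y := by
  classical
  haveI := h
  haveI : Fintype H := Fintype.ofFinite H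
  have key : ∀ x y : D, x ∈ H → y ∈ H → orderOf x = orderOf y → x ∈ Subgroup.zpowers y := by
    intro x y hx hy hxy
    have hpos : 0 < orderOf (⟨y, hy⟩ : H) := orderOf_pos _
    have h1 := IsCyclic.card_pow_eq_one_le (α := H) hpos
    have h2 : (Finset.univ.filter (fun u : H => u ∈ Subgroup.zpowers (⟨y, hy⟩ : H))) ⊆
        (Finset.univ.filter (fun u : H => u ^ orderOf (⟨y, hy⟩ : H) = 1)) := by
      intro u hu
      simp only [Finset.mem_filter, Finset.mem_univ, true_and] at hu ⊢
      obtain ⟨k, rfl⟩ := Subgroup.mem_zpowers_iff.1 hu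
      rw [← zpow_natCast, ← zpow_mul, mul_comm, zpow_mul, zpow_natCast, pow_orderOf_eq_one, one_zpow]
    have h3 : (Finset.univ.filter (fun u : H => u ∈ Subgroup.zpowers (⟨y, hy⟩ : H))).card =
        orderOf (⟨y, hy⟩ : H) := by
      rw [← Nat.card_zpowers, Nat.card_eq_fintype_card, Fintype.card_subtype]
    have h4 := Finset.eq_of_subset_of_card_le h2 (by rw [h3]; exact h1)
    have h5 : (⟨x, hx⟩ : H) ∈ Finset.univ.filter (fun u : H => u ∈ Subgroup.zpowers (⟨y, hy⟩ : H)) := by
      rw [h4]
      simp only [Finset.mem_filter, Finset.mem_univ, true_and]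
      have h6 : orderOf (⟨y, hy⟩ : H) = orderOf (⟨x, hx⟩ : H) := by
        rw [Subgroup.orderOf_mk, Subgroup.orderOf_mk, hxy]
      rw [h6, pow_orderOf_eq_one]
    simp only [Finset.mem_filter, Finset.mem_univ, true_and] at h5
    obtain ⟨n, hn⟩ := Subgroup.mem_zpowers_iff.1 h5
    exact Subgroup.mem_zpowers_iff.2 ⟨n, congrArg Subtype.val hn⟩
  apply le_antisymm
  · rw [Subgroup.zpowers_le]
    exact key x y hx hy hxy
  · rw [Subgroup.zpowers_le]
    exact key y x hy hx hxy.symm

/-- If centralisers of elements of order `p` are cyclic and there is a nontrivial normal `p`-subgroup,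
then the Sylow `p`-subgroups are normal. -/
theorem normal_of_normal_pSubgroup
    (hcyc : ∀ z : D, orderOf z = p → IsCyclic (Subgroup.centralizer ({z} : Set D)))
    (P : Sylow p D) (N : Subgroup D) (hNn : N.Normal) (hN : IsPGroup p N) (hne : N ≠ ⊥) :
    (P : Subgroup D).Normal := by
  have hNP : N ≤ (P : Subgroup D) := by
    obtain ⟨Q, hQ⟩ := hN.exists_le_sylow
    obtain ⟨g, hg⟩ := MulAction.exists_smul_eq D Q P
    intro x hx
    rw [← hg, Sylow.coe_subgroup_smul, Subgroup.mem_pointwise_smul_iff_inv_smul_mem]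
    apply hQ
    have : (MulAut.conj g)⁻¹ • x = g⁻¹ * x * g⁻¹⁻¹ := by
      rw [← map_inv]; rfl
    rw [this]
    exact hNn.conj_mem x hx g⁻¹
  have hPne : (P : Subgroup D) ≠ ⊥ := fun h => hne (le_bot_iff.1 (h ▸ hNP))
  have hPcyc := isCyclic_sylow hcyc P hPne
  haveI : Nontrivial N := (Subgroup.nontrivial_iff_ne_bot _).2 hne
  have h1 : p ∣ Nat.card N := by
    obtain ⟨n, hn⟩ := (IsPGroup.iff_card).1 hN
    have h3 : n ≠ 0 := by
      rintro rfl
      rw [pow_zero] at hn
      have := Finite.one_lt_card (α := N)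
      omega
    rw [hn]
    exact dvd_pow_self p h3
  obtain ⟨z, hz⟩ := exists_prime_orderOf_dvd_card' p h1
  have hzN : (z : D) ∈ N := z.2
  have hzo : orderOf (z : D) = p := by rw [Subgroup.orderOf_coe, hz]
  have hconj : ∀ g : D, orderOf (g * (z : D) * g⁻¹) = orderOf (z : D) := fun g =>
    orderOf_injective (MulAut.conj g).toMonoidHom (MulAut.conj g).injective (z : D)
  have hZn : ∀ g : D, Subgroup.zpowers (g * (z : D) * g⁻¹) = Subgroup.zpowers (z : D) := fun g =>
    zpowers_eq_of_orderOf hPcyc (hNP (hNn.conj_mem _ hzN g)) (hNP hzN) (hconj g)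
  haveI := hcyc z hzo
  refine normal_of_le_comm P (Subgroup.centralizer ({(z : D)} : Set D)) ?_
    (comm_of_isCyclic (hcyc z hzo)) ?_
  · refine ⟨fun x hx g => ?_⟩
    rw [Subgroup.mem_centralizer_singleton_iff] at hx ⊢
    have h2 : g⁻¹ * (z : D) * g⁻¹⁻¹ ∈ Subgroup.zpowers (z : D) := by
      rw [← hZn g⁻¹]
      exact Subgroup.mem_zpowers _
    obtain ⟨k, hk⟩ := Subgroup.mem_zpowers_iff.1 h2
    rw [inv_inv] at hk
    have h3 : x * (g⁻¹ * (z : D) * g) = (g⁻¹ * (z : D) * g) * x := by
      rw [← hk]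
      exact (Commute.zpow_right (show Commute x (z : D) from hx) k).eq
    calc g * x * g⁻¹ * (z : D) = g * (x * (g⁻¹ * (z : D) * g)) * g⁻¹ := by group
      _ = g * ((g⁻¹ * (z : D) * g) * x) * g⁻¹ := by rw [h3]
      _ = (z : D) * (g * x * g⁻¹) := by group
  · intro y hy
    rw [Subgroup.mem_centralizer_singleton_iff]
    exact comm_of_isCyclic hPcyc y hy _ (hNP hzN)

/-- A finite group with a cyclic normal nontrivial Sylow `p`-subgroup whose elements of order `p` have
cyclic centralisers is solvable. -/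
theorem isSolvable_of_normal
    (hcyc : ∀ z : D, orderOf z = p → IsCyclic (Subgroup.centralizer ({z} : Set D)))
    (P : Sylow p D) (hne : (P : Subgroup D) ≠ ⊥) (hPn : (P : Subgroup D).Normal) :
    Group.IsSolvable D := by
  haveI := hPn
  haveI := isCyclic_sylow hcyc P hne
  let f : D →* MulAut (P : Subgroup D) := MulAut.conjNormal
  haveI h1 : IsMulCommutative (MulAut (P : Subgroup D)) := by
    refine ⟨⟨fun a b => ?_⟩⟩
    apply (IsCyclic.mulAutMulEquiv (P : Subgroup D)).injective
    rw [map_mul, map_mul, mul_comm]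
  haveI h2 : Group.IsSolvable (MulAut (P : Subgroup D)) := by
    letI : CommGroup (MulAut (P : Subgroup D)) :=
      { (inferInstance : Group (MulAut (P : Subgroup D))) with
        mul_comm := fun a b => h1.is_comm.comm a b }
    exact inferInstance
  obtain ⟨z, hzP, hz, -⟩ := exists_central_orderOf P hne
  have h3 : f.ker ≤ Subgroup.centralizer ({z} : Set D) := by
    intro x hx
    rw [Subgroup.mem_centralizer_singleton_iff]
    have h4 : f x = 1 := hx
    have h5 := congrArg Subtype.val (DFunLike.congr_fun h4 (⟨z, hzP⟩ : (P : Subgroup D)))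
    have h6 : x * z * x⁻¹ = z := h5
    exact mul_inv_eq_iff_eq_mul.1 h6
  haveI := hcyc z hz
  haveI h4 : Group.IsSolvable (Subgroup.centralizer ({z} : Set D)) := by
    letI := IsCyclic.commGroup (α := Subgroup.centralizer ({z} : Set D))
    exact inferInstance
  refine Group.isSolvable_of_ker_le_range (Subgroup.centralizer ({z} : Set D)).subtype f ?_
  rw [Subgroup.range_subtype]
  exact h3

end Cfsg.Agent.LieRecognition.FT61.Grp
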