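import Mathlib

set_option autoImplicit false

/-!
Lifting a homomorphism of an odd order group to `GL_n(2)` to `GL_n(ℤ₂)`.
-/

namespace Cfsg.Agent.LieRecognition.FT61.Lift

open Finset

section Newton

variable {R : Type*} [Ring R] {D : Type*} [Group D] [Fintype D]

theorem dvd_left {a x y : R} (ha : ∀ z, Commute a z) (h : a ∣ x) : a ∣ y * x := by
  obtain ⟨c, rfl⟩ := h
  exact ⟨y * c, by rw [← mul_assoc, ← (ha y).eq, mul_assoc]⟩

theorem two_pow_comm (k : ℕ) (z : R) : Commute ((2 : R) ^ k) z :=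
  (Commute.ofNat_left 2 z).pow_left k

theorem dvd_mul_mul (k : ℕ) {x y : R} (hx : (2 : R) ^ k ∣ x) (hy : (2 : R) ^ k ∣ y) :
    (2 : R) ^ (2 * k) ∣ x * y := by
  obtain ⟨c, rfl⟩ := hx
  obtain ⟨d, rfl⟩ := hy
  refine ⟨c * d, ?_⟩
  rw [two_mul, pow_add, mul_assoc, mul_assoc, ← mul_assoc c, ← (two_pow_comm k c).eq, mul_assoc]

/-- Newton step: averaging doubles the precision. -/
theorem newton (u : R) (hu : (Fintype.card D : R) * u = 1) (huc : ∀ z, Commute u z)
    (k : ℕ) (f : D → Rˣ) (hf : ∀ g h, (2 : R) ^ k ∣ ((f (g * h) : Rˣ) : R) - f g * f h) :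
    ∃ f' : D → R, (∀ g, (2 : R) ^ k ∣ f' g - f g) ∧
      ∀ g h, (2 : R) ^ (2 * k) ∣ f' (g * h) - f' g * f' h := by
  classical
  set e : D → D → R := fun g h => ((f (g * h) : Rˣ) : R) * ((f h)⁻¹ : Rˣ) - f g with he
  have hek : ∀ g h, (2 : R) ^ k ∣ e g h := by
    intro g h
    have : e g h = (((f (g * h) : Rˣ) : R) - f g * f h) * ((f h)⁻¹ : Rˣ) := by
      rw [he]
      simp only [sub_mul, mul_assoc, Units.mul_inv, mul_one]
    rw [this]
    exact Dvd.dvd.mul_right (hf g h) _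
  set E : D → R := fun g => u * ∑ h, e g h with hE
  have hEk : ∀ g, (2 : R) ^ k ∣ E g := fun g =>
    dvd_left (two_pow_comm k) (Finset.dvd_sum fun h _ => hek g h)
  refine ⟨fun g => f g + E g, fun g => by simpa using hEk g, fun g g' => ?_⟩
  -- expand
  have hmul : ∀ h, ((f (g * g') : Rˣ) : R) + e (g * g') h
      = (f g + e g (g' * h)) * (f g' + e g' h) := by
    intro h
    simp only [he, add_sub_cancel]
    rw [mul_assoc g g' h]
    rw [mul_assoc ((f (g * (g' * h)) : Rˣ) : R), ← mul_assoc (((f (g' * h))⁻¹ : Rˣ) : R),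
      Units.inv_mul, one_mul]
  have hsum : ∑ h : D, (((f (g * g') : Rˣ) : R) + e (g * g') h)
      = ∑ h : D, ((f g : R) + e g (g' * h)) * (f g' + e g' h) :=
    Finset.sum_congr rfl fun h _ => hmul h
  have hshift : ∑ h : D, e g (g' * h) = ∑ h : D, e g h :=
    Fintype.sum_equiv (Equiv.mulLeft g') _ _ fun h => rfl
  have hL : u * ∑ h : D, (((f (g * g') : Rˣ) : R) + e (g * g') h) = f (g * g') + E (g * g') := by
    rw [Finset.sum_add_distrib, mul_add, Finset.sum_const, Finset.card_univ, nsmul_eq_mul,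
      ← mul_assoc, (huc _).eq, hu, one_mul]
  have hR : u * ∑ h : D, ((f g : R) + e g (g' * h)) * (f g' + e g' h)
      = f g * f g' + f g * E g' + E g * f g' + u * ∑ h : D, e g (g' * h) * e g' h := by
    have h1 : ∀ x y : R, u * (x * y) = x * (u * y) := fun x y => by
      rw [← mul_assoc, (huc _).eq, mul_assoc]
    have h2 : u * ∑ h : D, (f g : R) * e g' h = f g * E g' := by
      rw [← Finset.mul_sum, h1]
    have h3 : u * ∑ h : D, e g (g' * h) * (f g' : R) = E g * f g' := by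
      rw [← Finset.sum_mul, hshift, ← mul_assoc]
    have h4 : u * ∑ _h : D, (f g : R) * f g' = f g * f g' := by
      rw [Finset.sum_const, Finset.card_univ, nsmul_eq_mul, ← mul_assoc, (huc _).eq, hu, one_mul]
    simp only [add_mul, mul_add, Finset.sum_add_distrib]
    rw [h2, h3, h4]
    abel
  have key : f (g * g') + E (g * g') - (f g + E g) * (f g' + E g')
      = u * ∑ h : D, e g (g' * h) * e g' h - E g * E g' := by
    rw [← hL, hsum, hR, add_mul, mul_add, mul_add]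
    abel
  show (2 : R) ^ (2 * k) ∣ f (g * g') + E (g * g') - (f g + E g) * (f g' + E g')
  rw [key]
  exact dvd_sub (dvd_left (two_pow_comm _) (Finset.dvd_sum fun h _ => dvd_mul_mul k (hek _ _) (hek _ _)))
    (dvd_mul_mul k (hEk _) (hEk _))

end Newton

section Matrices

variable {n : ℕ}

theorem two_pow_mul (k : ℕ) (B : Matrix (Fin n) (Fin n) ℤ_[2]) :
    (2 : Matrix (Fin n) (Fin n) ℤ_[2]) ^ k * B = ((2 : ℤ_[2]) ^ k) • B := by
  have : (2 : Matrix (Fin n) (Fin n) ℤ_[2]) = (2 : ℤ_[2]) • (1 : Matrix (Fin n) (Fin n) ℤ_[2]) := by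
    rw [two_smul, one_add_one_eq_two]
  rw [this, smul_pow, one_pow, smul_mul_assoc, one_mul]

theorem two_pow_dvd_iff (k : ℕ) (A : Matrix (Fin n) (Fin n) ℤ_[2]) :
    (2 : Matrix (Fin n) (Fin n) ℤ_[2]) ^ k ∣ A ↔ ∀ i j, (2 : ℤ_[2]) ^ k ∣ A i j := by
  constructor
  · rintro ⟨B, rfl⟩ i j
    rw [two_pow_mul]
    exact ⟨B i j, by simp [Matrix.smul_apply]⟩
  · intro h
    choose B hB using h
    refine ⟨Matrix.of B, ?_⟩
    rw [two_pow_mul]
    ext i j
    simp [hB i j]

theorem two_pow_dvd_iff_norm (k : ℕ) (A : Matrix (Fin n) (Fin n) ℤ_[2]) :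
    (2 : Matrix (Fin n) (Fin n) ℤ_[2]) ^ k ∣ A ↔ ∀ i j, ‖A i j‖ ≤ (2 : ℝ) ^ (-(k : ℤ)) := by
  rw [two_pow_dvd_iff]
  refine forall_congr' fun i => forall_congr' fun j => ?_
  have := PadicInt.norm_le_pow_iff_mem_span_pow (p := 2) (A i j) k
  rw [Ideal.mem_span_singleton] at this
  simpa using this.symm

theorem isClosed_dvd (k : ℕ) :
    IsClosed {A : Matrix (Fin n) (Fin n) ℤ_[2] | (2 : Matrix (Fin n) (Fin n) ℤ_[2]) ^ k ∣ A} := by
  simp only [two_pow_dvd_iff_norm, Set.ofPred_forall]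
  refine isClosed_iInter fun i => isClosed_iInter fun j => ?_
  exact isClosed_le ((continuous_apply_apply i j).norm) continuous_const

theorem eq_zero_of_dvd {A : Matrix (Fin n) (Fin n) ℤ_[2]}
    (h : ∀ k : ℕ, (2 : Matrix (Fin n) (Fin n) ℤ_[2]) ^ k ∣ A) : A = 0 := by
  ext i j
  have h1 : ∀ k : ℕ, ‖A i j‖ ≤ (2 : ℝ) ^ (-(k : ℤ)) := fun k => (two_pow_dvd_iff_norm k A).1 (h k) i j
  have h2 : Filter.Tendsto (fun k : ℕ => (2 : ℝ) ^ (-(k : ℤ))) Filter.atTop (nhds 0) := by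
    have : (fun k : ℕ => (2 : ℝ) ^ (-(k : ℤ))) = fun k : ℕ => ((1 : ℝ) / 2) ^ k := by
      ext k
      rw [zpow_neg, zpow_natCast, one_div, inv_pow]
    rw [this]
    exact tendsto_pow_atTop_nhds_zero_of_lt_one (by norm_num) (by norm_num)
  have h3 : ‖A i j‖ ≤ 0 := ge_of_tendsto' h2 h1
  simpa using h3

theorem isUnit_of_map {A : Matrix (Fin n) (Fin n) ℤ_[2]} {B : GL (Fin n) (ZMod 2)}
    (h : A.map (PadicInt.toZMod (p := 2)) = B) : IsUnit A := by
  rw [Matrix.isUnit_iff_isUnit_det]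
  by_contra hn
  have h1 : A.det ∈ IsLocalRing.maximalIdeal ℤ_[2] := (IsLocalRing.mem_maximalIdeal _).2 hn
  rw [← PadicInt.ker_toZMod, RingHom.mem_ker, RingHom.map_det, RingHom.mapMatrix_apply, h] at h1
  have h2 : IsUnit (B : Matrix (Fin n) (Fin n) (ZMod 2)).det :=
    (Matrix.isUnit_iff_isUnit_det _).1 B.isUnit
  rw [h1] at h2
  exact not_isUnit_zero h2

theorem map_eq_iff (A B : Matrix (Fin n) (Fin n) ℤ_[2]) :
    A.map (PadicInt.toZMod (p := 2)) = B.map (PadicInt.toZMod (p := 2)) ↔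
      (2 : Matrix (Fin n) (Fin n) ℤ_[2]) ^ 1 ∣ A - B := by
  rw [two_pow_dvd_iff, ← Matrix.ext_iff]
  refine forall_congr' fun i => forall_congr' fun j => ?_
  rw [Matrix.map_apply, Matrix.map_apply, ← sub_eq_zero, ← map_sub, ← RingHom.mem_ker,
    PadicInt.ker_toZMod, PadicInt.maximalIdeal_eq_span_p, Ideal.mem_span_singleton, pow_one,
    Matrix.sub_apply]
  rfl

end Matrices

section Main

variable {D : Type*} [Group D] [Finite D] {n : ℕ}

/-- maps multiplicative modulo `2 ^ k` lifting `σ`. -/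
def Appr (σ : D →* GL (Fin n) (ZMod 2)) (k : ℕ) : Set (D → Matrix (Fin n) (Fin n) ℤ_[2]) :=
  {f | (∀ g, (f g).map (PadicInt.toZMod (p := 2)) = σ g) ∧
    ∀ g h, (2 : Matrix (Fin n) (Fin n) ℤ_[2]) ^ k ∣ f (g * h) - f g * f h}

omit [Finite D] in
theorem appr_one (σ : D →* GL (Fin n) (ZMod 2)) : (Appr σ 1).Nonempty := by
  have hs : Function.Surjective (PadicInt.toZMod (p := 2)) := ZMod.ringHom_surjective _
  choose s hs using hs
  refine ⟨fun g => (σ g : Matrix (Fin n) (Fin n) (ZMod 2)).map s, fun g => ?_, fun g h => ?_⟩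
  · ext i j
    simp [hs]
  · rw [← map_eq_iff]
    have h1 : ∀ B : Matrix (Fin n) (Fin n) (ZMod 2), (B.map s).map (PadicInt.toZMod (p := 2)) = B := by
      intro B
      ext i j
      simp [hs]
    rw [h1, Matrix.map_mul, h1, h1, map_mul]
    rfl

theorem appr_succ (hodd : Odd (Nat.card D)) (σ : D →* GL (Fin n) (ZMod 2)) {k : ℕ} (hk : 1 ≤ k)
    (h : (Appr σ k).Nonempty) : (Appr σ (k + 1)).Nonempty := by
  classical
  have := Fintype.ofFinite D
  obtain ⟨f, hf1, hf2⟩ := h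
  have hu : IsUnit ((Fintype.card D : ℕ) : ℤ_[2]) := by
    rw [← Nat.card_eq_fintype_card]
    rw [PadicInt.isUnit_iff, PadicInt.norm_natCast_eq_one_iff]
    exact hodd.coprime_two_left
  obtain ⟨v, hv⟩ := hu.exists_right_inv
  have hunit : ∀ g, IsUnit (f g) := fun g => isUnit_of_map (hf1 g)
  choose F hF using hunit
  obtain ⟨f', h1, h2⟩ := newton (R := Matrix (Fin n) (Fin n) ℤ_[2]) (D := D)
    (algebraMap ℤ_[2] _ v) (by
      rw [← map_natCast (algebraMap ℤ_[2] (Matrix (Fin n) (Fin n) ℤ_[2])), ← map_mul, hv, map_one])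
    (fun z => Algebra.commutes v z) k F (fun g h => by simpa [hF] using hf2 g h)
  refine ⟨f', fun g => ?_, fun g h => ?_⟩
  · rw [← hf1 g, map_eq_iff]
    have := h1 g
    rw [hF] at this
    exact (pow_dvd_pow _ hk).trans this
  · exact (pow_dvd_pow _ (by omega)).trans (h2 g h)

theorem appr_nonempty (hodd : Odd (Nat.card D)) (σ : D →* GL (Fin n) (ZMod 2)) (k : ℕ) :
    (Appr σ (k + 1)).Nonempty := by
  induction k with
  | zero => exact appr_one σ
  | succ k ih => exact appr_succ hodd σ (by omega) ih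

omit [Finite D] in
theorem isClosed_appr (σ : D →* GL (Fin n) (ZMod 2)) (k : ℕ) : IsClosed (Appr σ k) := by
  obtain ⟨f₀, hf₀, -⟩ := appr_one σ
  have : Appr σ k = {f | (∀ g, (2 : Matrix (Fin n) (Fin n) ℤ_[2]) ^ 1 ∣ f g - f₀ g) ∧
    ∀ g h, (2 : Matrix (Fin n) (Fin n) ℤ_[2]) ^ k ∣ f (g * h) - f g * f h} := by
    ext f
    simp only [Appr, Set.mem_ofPred_eq, ← map_eq_iff, hf₀]
  rw [this, Set.ofPred_and]
  refine IsClosed.inter ?_ ?_
  · simp only [Set.ofPred_forall]
    refine isClosed_iInter fun g => ?_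
    exact (isClosed_dvd 1).preimage
      (f := fun f : D → Matrix (Fin n) (Fin n) ℤ_[2] => f g - f₀ g)
      ((continuous_apply g).sub continuous_const)
  · simp only [Set.ofPred_forall]
    refine isClosed_iInter fun g => isClosed_iInter fun h => ?_
    exact (isClosed_dvd k).preimage
      (f := fun f : D → Matrix (Fin n) (Fin n) ℤ_[2] => f (g * h) - f g * f h)
      ((continuous_apply (g * h)).sub ((continuous_apply g).matrix_mul (continuous_apply h)))

theorem exists_lift {D : Type*} [Group D] [Finite D] (hodd : Odd (Nat.card D)) {n : ℕ}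
    (σ : D →* GL (Fin n) (ZMod 2)) :
    ∃ τ : D →* GL (Fin n) ℤ_[2],
      ∀ g, Matrix.GeneralLinearGroup.map (PadicInt.toZMod (p := 2)) (τ g) = σ g := by
  have hmono : ∀ {k l : ℕ}, k ≤ l → Appr σ (l + 1) ⊆ Appr σ (k + 1) := by
    rintro k l hkl f ⟨h1, h2⟩
    exact ⟨h1, fun g h => (pow_dvd_pow _ (by omega)).trans (h2 g h)⟩
  have hcpt : CompactSpace (Matrix (Fin n) (Fin n) ℤ_[2]) := by
    show CompactSpace (Fin n → Fin n → ℤ_[2])
    infer_instance
  obtain ⟨f, hf⟩ := IsCompact.nonempty_iInter_of_sequence_nonempty_isCompact_isClosed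
    (fun k : ℕ => Appr σ (k + 1)) (fun k => hmono (Nat.le_succ k))
    (appr_nonempty hodd σ) (isClosed_appr σ (0 + 1)).isCompact
    (fun k => isClosed_appr σ (k + 1))
  rw [Set.mem_iInter] at hf
  have hmap : ∀ g, (f g).map (PadicInt.toZMod (p := 2)) = σ g := (hf 0).1
  have hmul : ∀ g h, f (g * h) = f g * f h := by
    intro g h
    rw [← sub_eq_zero]
    refine eq_zero_of_dvd fun k => ?_
    exact (pow_dvd_pow _ (by omega)).trans ((hf k).2 g h)
  have hone : f 1 = 1 := by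
    have h1 := hmul 1 1
    rw [one_mul] at h1
    have h2 : IsUnit (f 1) := isUnit_of_map (hmap 1)
    exact (h2.mul_left_cancel (by rw [mul_one]; exact h1)).symm
  let φ : D →* Matrix (Fin n) (Fin n) ℤ_[2] :=
    { toFun := f, map_one' := hone, map_mul' := hmul }
  refine ⟨φ.toHomUnits, fun g => ?_⟩
  apply Units.ext
  exact hmap g

end Main

end Cfsg.Agent.LieRecognition.FT61.Lift
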