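import Mathlib
import Cfsg.Agent.S0144
import Cfsg.Agent.Transfer.ElemAbAut

/-!
FT61-SIX: a finite group of odd order acting transitively on the nonzero vectors of `F_2^6` is
solvable (without the odd order theorem).
-/

namespace Cfsg.Agent.LieRecognition.FT61.Six

open Matrix

/-- The order of `D` divides the odd part of `|GL_6(2)|`. -/
private lemma card_dvd {D : Type*} [Group D] [Finite D] (hodd : Odd (Nat.card D))
    (σ : D →* GL (Fin 6) (ZMod 2)) (hσ : Function.Injective σ) :
    Nat.card D ∣ 3 ^ 4 * 5 * 7 ^ 2 * 31 := by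
  have h1 : Nat.card D ∣ Nat.card (GL (Fin 6) (ZMod 2)) := Subgroup.card_dvd_of_injective σ hσ
  rw [Matrix.card_GL_field] at h1
  have h2 : (∏ i : Fin 6, (Fintype.card (ZMod 2) ^ 6 - Fintype.card (ZMod 2) ^ (i : ℕ))) =
      2 ^ 15 * (3 ^ 4 * 5 * 7 ^ 2 * 31) := by
    rw [ZMod.card]
    simp [Fin.prod_univ_succ]
  rw [h2] at h1
  exact (Nat.Coprime.pow_right 15 (Nat.coprime_two_right.mpr hodd)).dvd_of_dvd_mul_left h1

/-- There is a matrix commuting with the group which is not scalar. -/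
private lemma exists_commute {D : Type*} [Group D] [Finite D] (hodd : Odd (Nat.card D))
    (σ : D →* GL (Fin 6) (ZMod 2)) :
    ∃ T : Matrix (Fin 6) (Fin 6) (ZMod 2), T ≠ 0 ∧ T ≠ 1 ∧
      ∀ d, (σ d : Matrix (Fin 6) (Fin 6) (ZMod 2)) * T =
        T * (σ d : Matrix (Fin 6) (Fin 6) (ZMod 2)) := by
  classical
  by_contra hcon
  push Not at hcon
  have _ : Fintype D := Fintype.ofFinite D
  let c : Matrix (Fin 6) (Fin 6) (ZMod 2) → Matrix (Fin 6) (Fin 6) (ZMod 2) := fun X =>
    ∑ d : D, (σ d : Matrix (Fin 6) (Fin 6) (ZMod 2)) * X *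
      (σ d⁻¹ : Matrix (Fin 6) (Fin 6) (ZMod 2))
  have hinv : ∀ d, (σ d⁻¹ : Matrix (Fin 6) (Fin 6) (ZMod 2)) *
      (σ d : Matrix (Fin 6) (Fin 6) (ZMod 2)) = 1 := by
    intro d
    rw [← Units.val_mul, ← map_mul, inv_mul_cancel, map_one, Units.val_one]
  have hinv' : ∀ d, (σ d : Matrix (Fin 6) (Fin 6) (ZMod 2)) *
      (σ d⁻¹ : Matrix (Fin 6) (Fin 6) (ZMod 2)) = 1 := by
    intro d
    rw [← Units.val_mul, ← map_mul, mul_inv_cancel, map_one, Units.val_one]
  have hc : ∀ X d, (σ d : Matrix (Fin 6) (Fin 6) (ZMod 2)) * c X =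
      c X * (σ d : Matrix (Fin 6) (Fin 6) (ZMod 2)) := by
    intro X d
    have h1 : (σ d : Matrix (Fin 6) (Fin 6) (ZMod 2)) * c X *
        (σ d⁻¹ : Matrix (Fin 6) (Fin 6) (ZMod 2)) = c X := by
      simp only [c]
      rw [Finset.mul_sum, Finset.sum_mul]
      refine Fintype.sum_equiv (Equiv.mulLeft d) _ _ fun e => ?_
      simp only [Equiv.coe_mulLeft, _root_.mul_inv_rev, map_mul, Units.val_mul]
      simp only [Matrix.mul_assoc]
    calc (σ d : Matrix (Fin 6) (Fin 6) (ZMod 2)) * c X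
        = (σ d : Matrix (Fin 6) (Fin 6) (ZMod 2)) * c X *
          ((σ d⁻¹ : Matrix (Fin 6) (Fin 6) (ZMod 2)) *
            (σ d : Matrix (Fin 6) (Fin 6) (ZMod 2))) := by rw [hinv, Matrix.mul_one]
      _ = ((σ d : Matrix (Fin 6) (Fin 6) (ZMod 2)) * c X *
          (σ d⁻¹ : Matrix (Fin 6) (Fin 6) (ZMod 2))) *
            (σ d : Matrix (Fin 6) (Fin 6) (ZMod 2)) := by rw [Matrix.mul_assoc, Matrix.mul_assoc,
              Matrix.mul_assoc]
      _ = _ := by rw [h1]
  have htr : ∀ X, Matrix.trace (c X) = Matrix.trace X := by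
    intro X
    simp only [c, Matrix.trace_sum]
    have h2 : ∀ d : D, Matrix.trace ((σ d : Matrix (Fin 6) (Fin 6) (ZMod 2)) * X *
        (σ d⁻¹ : Matrix (Fin 6) (Fin 6) (ZMod 2))) = Matrix.trace X := by
      intro d
      rw [Matrix.trace_mul_comm, ← Matrix.mul_assoc, hinv, Matrix.one_mul]
    rw [Finset.sum_congr rfl fun d _ => h2 d, Finset.sum_const, Finset.card_univ,
      ← Nat.card_eq_fintype_card, nsmul_eq_mul]
    have h3 : ((Nat.card D : ℕ) : ZMod 2) = 1 := by
      rw [ZMod.natCast_eq_one_iff_odd]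
      exact hodd
    rw [h3, one_mul]
  have h4 : ∀ X, Matrix.trace (c X) = 0 := by
    intro X
    by_cases h0 : c X = 0
    · rw [h0, Matrix.trace_zero]
    · by_cases h1 : c X = 1
      · rw [h1, Matrix.trace_one]
        decide
      · obtain ⟨d, hd⟩ := hcon (c X) h0 h1
        exact absurd (hc X d) hd
  have h5 := h4 (Matrix.single 0 0 1)
  rw [htr, Matrix.trace_single_eq_same] at h5
  exact one_ne_zero h5

/-- No element of order `31`. -/
private lemma not_dvd {D : Type*} [Group D] [Finite D] (hodd : Odd (Nat.card D))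
    (σ : D →* GL (Fin 6) (ZMod 2)) (hσ : Function.Injective σ)
    (htrans : ∀ a b : Fin 6 → ZMod 2, a ≠ 0 → b ≠ 0 →
      ∃ d : D, Matrix.mulVec (σ d : Matrix (Fin 6) (Fin 6) (ZMod 2)) a = b) :
    ¬ 31 ∣ Nat.card D := by
  intro h31
  have hp : Fact (Nat.Prime 31) := ⟨by norm_num⟩
  obtain ⟨x, hx⟩ := exists_prime_orderOf_dvd_card' 31 h31
  obtain ⟨T, hT0, hT1, hT⟩ := exists_commute hodd σ
  -- the action of `⟨x⟩` on the vectors
  set M : Matrix (Fin 6) (Fin 6) (ZMod 2) := (σ x : Matrix (Fin 6) (Fin 6) (ZMod 2)) with hM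
  set f : (Fin 6 → ZMod 2) →ₗ[ZMod 2] (Fin 6 → ZMod 2) := M.mulVecLin with hf
  have hfpow : ∀ n : ℕ, (f ^ n) = ((σ (x ^ n) : GL (Fin 6) (ZMod 2)) :
      Matrix (Fin 6) (Fin 6) (ZMod 2)).mulVecLin := by
    intro n
    induction n with
    | zero => simp [Module.End.one_eq_id]
    | succ n ih =>
      rw [pow_succ, ih, pow_succ, map_mul, Units.val_mul, Matrix.mulVecLin_mul]
      rfl
  have hf31 : f ^ 31 = 1 := by
    rw [hfpow, ← hx, pow_orderOf_eq_one, map_one, Units.val_one, Matrix.mulVecLin_one]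
    rfl
  have hf1 : f ≠ 1 := by
    intro h
    have h1 : σ x = 1 := by
      apply Units.ext
      rw [Units.val_one]
      refine Matrix.ext_of_mulVec_single fun i => ?_
      rw [Matrix.one_mulVec]
      exact congrArg (fun g : Module.End (ZMod 2) (Fin 6 → ZMod 2) => g (Pi.single i 1)) h
    have h2 : x = 1 := hσ (by rw [h1, map_one])
    rw [h2, orderOf_one] at hx
    norm_num at hx
  set W : Submodule (ZMod 2) (Fin 6 → ZMod 2) := LinearMap.ker (f - 1) with hW
  have hmemW : ∀ v, v ∈ W ↔ f v = v := by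
    intro v
    rw [hW, LinearMap.mem_ker, LinearMap.sub_apply, Module.End.one_apply, sub_eq_zero]
  -- number of fixed points
  have hcardW : Nat.card W ≡ 64 [MOD 31] := by
    have hfunit : IsUnit f := by
      refine IsUnit.of_pow_eq_one hf31 (by norm_num)
    obtain ⟨g, hg⟩ := hfunit
    let _ : MulAction (Module.End (ZMod 2) (Fin 6 → ZMod 2))ˣ (Fin 6 → ZMod 2) := inferInstance
    have hg31 : g ^ 31 = 1 := by
      apply Units.ext
      rw [Units.val_pow_eq_pow_val, hg, hf31, Units.val_one]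
    have hgp : IsPGroup 31 (Subgroup.zpowers g) := by
      intro y
      refine ⟨1, ?_⟩
      obtain ⟨k, hk⟩ := y.2
      apply Subtype.ext
      rw [Subgroup.coe_pow, ← hk, Subgroup.coe_one, pow_one]
      simp only
      rw [← zpow_natCast, ← _root_.zpow_mul, mul_comm, _root_.zpow_mul, zpow_natCast, hg31,
        _root_.one_zpow]
    have hfin : Finite (Subgroup.zpowers g) := by
      have hfo : IsOfFinOrder g := isOfFinOrder_iff_pow_eq_one.mpr ⟨31, by norm_num, hg31⟩
      exact Set.finite_coe_iff.mpr hfo.finite_zpowers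
    have h3 := hgp.card_modEq_card_fixedPoints (Fin 6 → ZMod 2)
    have h4 : Nat.card (Fin 6 → ZMod 2) = 64 := by
      rw [Nat.card_eq_fintype_card]
      simp
    rw [h4] at h3
    have h5 : (MulAction.fixedPoints (Subgroup.zpowers g) (Fin 6 → ZMod 2)) = (W : Set _) := by
      ext v
      rw [MulAction.mem_fixedPoints, SetLike.mem_coe, hmemW]
      constructor
      · intro h
        have := h ⟨g, Subgroup.mem_zpowers g⟩
        rw [← hg]
        exact this
      · intro h y
        obtain ⟨k, hk⟩ := y.2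
        have h6 : g ∈ MulAction.stabilizer (Module.End (ZMod 2) (Fin 6 → ZMod 2))ˣ v := by
          rw [MulAction.mem_stabilizer_iff]
          change (g : Module.End (ZMod 2) (Fin 6 → ZMod 2)) v = v
          rw [hg]; exact h
        have h7 : (y : (Module.End (ZMod 2) (Fin 6 → ZMod 2))ˣ) ∈
            MulAction.stabilizer (Module.End (ZMod 2) (Fin 6 → ZMod 2))ˣ v := by
          rw [← hk]; exact Subgroup.zpow_mem _ h6 k
        exact h7
    rw [h5] at h3
    exact h3.symm
  have hcardW2 : Nat.card W = 2 ^ Module.finrank (ZMod 2) W := by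
    rw [Module.natCard_eq_pow_finrank (K := ZMod 2) (V := W), Nat.card_zmod]
  have hWtop : W ≠ ⊤ := by
    intro h
    apply hf1
    ext1 v
    ext1
    have := (hmemW (LinearMap.single (ZMod 2) (fun _ => ZMod 2) v 1)).mp (by rw [h]; trivial)
    exact this
  have hlt : Module.finrank (ZMod 2) W < 6 := by
    have := Submodule.finrank_lt hWtop
    simpa using this
  have hcard2 : Nat.card W = 2 := by
    rw [hcardW2] at hcardW ⊢
    interval_cases h : Module.finrank (ZMod 2) W <;> simp_all [Nat.ModEq]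
  -- a nonzero fixed vector
  obtain ⟨w, hw, hw0, huniq⟩ : ∃ w ∈ W, w ≠ 0 ∧ ∀ v ∈ W, v = 0 ∨ v = w := by
    obtain ⟨⟨w, hw⟩, hne⟩ : ∃ w : W, w ≠ 0 := by
      by_contra hcon
      push Not at hcon
      have : Nat.card W = 1 := by
        rw [Nat.card_eq_one_iff_unique]
        exact ⟨⟨fun a b => by rw [hcon a, hcon b]⟩, ⟨0⟩⟩
      omega
    refine ⟨w, hw, fun h => hne (Subtype.ext h), fun v hv => ?_⟩
    have hfinW : Finite W := Nat.finite_of_card_ne_zero (by omega)
    rw [Nat.card_eq_two_iff' (⟨w, hw⟩ : W)] at hcard2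
    by_contra hcon
    push Not at hcon
    obtain ⟨y, hy, hyu⟩ := hcard2
    have h1 := hyu ⟨v, hv⟩ (fun h => hcon.2 (congrArg Subtype.val h))
    have h2 := hyu 0 (fun h => hne h.symm)
    exact hcon.1 (congrArg Subtype.val (h1.trans h2.symm))
  have hTw : T.mulVec w ∈ W := by
    rw [hmemW, hf, Matrix.mulVecLin_apply, Matrix.mulVec_mulVec, hT x, ← Matrix.mulVec_mulVec]
    congr 1
    exact (hmemW w).mp hw
  rcases huniq _ hTw with h | h
  · apply hT0
    have : ∀ v, T.mulVec v = 0 := by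
      intro v
      by_cases hv : v = 0
      · rw [hv, Matrix.mulVec_zero]
      · obtain ⟨d, hd⟩ := htrans w v hw0 hv
        rw [← hd, Matrix.mulVec_mulVec, ← hT d, ← Matrix.mulVec_mulVec, h, Matrix.mulVec_zero]
    refine Matrix.ext_of_mulVec_single fun i => ?_
    rw [Matrix.zero_mulVec]
    exact this _
  · apply hT1
    have : ∀ v, T.mulVec v = v := by
      intro v
      by_cases hv : v = 0
      · rw [hv, Matrix.mulVec_zero]
      · obtain ⟨d, hd⟩ := htrans w v hw0 hv
        rw [← hd, Matrix.mulVec_mulVec, ← hT d, ← Matrix.mulVec_mulVec, h]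
    refine Matrix.ext_of_mulVec_single fun i => ?_
    rw [Matrix.one_mulVec]
    exact this _

theorem isSolvable_six {D : Type*} [Group D] [Finite D] (hodd : Odd (Nat.card D))
    (σ : D →* GL (Fin 6) (ZMod 2)) (hσ : Function.Injective σ)
    (htrans : ∀ a b : Fin 6 → ZMod 2, a ≠ 0 → b ≠ 0 →
      ∃ d : D, Matrix.mulVec (σ d : Matrix (Fin 6) (Fin 6) (ZMod 2)) a = b) :
    Group.IsSolvable D := by
  have h1 := card_dvd hodd σ hσ
  have h2 : Nat.card D ∣ 3 ^ 4 * 5 * 7 ^ 2 := by
    refine Nat.Coprime.dvd_of_dvd_mul_right ?_ h1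
    exact ((Nat.Prime.coprime_iff_not_dvd (by norm_num)).mpr (not_dvd hodd σ hσ htrans)).symm
  have key : ∀ (K : Type _) [Group K] [Finite K], Nat.card K ∣ 3 ^ 4 * 7 ^ 2 →
      Group.IsSolvable K := by
    intro K _ _ hK
    obtain ⟨⟨a, b⟩, ha, hb, hab⟩ : ∃ y : ℕ × ℕ, y.1 ∣ 3 ^ 4 ∧ y.2 ∣ 7 ^ 2 ∧
        y.1 * y.2 = Nat.card K := by
      obtain ⟨a, b, ha, hb, hab⟩ := (Nat.dvd_mul).mp hK
      exact ⟨(a, b), ha, hb, hab⟩
    obtain ⟨i, _, hi⟩ := (Nat.dvd_prime_pow Nat.prime_three).mp ha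
    obtain ⟨j, _, hj⟩ := (Nat.dvd_prime_pow (by norm_num : Nat.Prime 7)).mp hb
    exact Cfsg.Agent.S0144.result 3 7 i j Nat.prime_three (by norm_num) (by
      rw [← hab]; simp only at hi hj; rw [hi, hj])
  by_cases h5 : 5 ∣ Nat.card D
  · have hp : Fact (Nat.Prime 5) := ⟨by norm_num⟩
    obtain ⟨P⟩ : Nonempty (Sylow 5 D) := inferInstance
    have hPcard : Nat.card P = 5 := by
      have h3 := P.card_eq_multiplicity
      have h4 : (Nat.card D).factorization 5 = 1 := by
        apply le_antisymm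
        · have h5' : (Nat.card D).factorization 5 ≤ (3 ^ 4 * 5 * 7 ^ 2).factorization 5 :=
            (Nat.factorization_le_iff_dvd Nat.card_pos.ne' (by norm_num)).mpr h2 5
          have h6 : (3 ^ 4 * 5 * 7 ^ 2 : ℕ).factorization 5 = 1 := by
            rw [Nat.factorization_def _ (by norm_num)]
            rw [show (3 ^ 4 * 5 * 7 ^ 2 : ℕ) = 5 ^ 1 * (3 ^ 4 * 7 ^ 2) by norm_num,
              padicValNat.mul (by norm_num) (by norm_num), padicValNat.prime_pow,
              padicValNat.eq_zero_of_not_dvd (by norm_num)]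
          omega
        · exact (Nat.Prime.dvd_iff_one_le_factorization (by norm_num) Nat.card_pos.ne').mp h5
      rw [h3, h4, pow_one]
    have hcommP : ∀ x y : P, x * y = y * x := by
      have : IsCyclic P := isCyclic_of_prime_card hPcard
      exact fun x y => IsCyclic.commGroup.mul_comm x y
    have hPpow : ∀ x : (P : Subgroup D), x ^ 5 = 1 := fun x => by
      have h9 := pow_card_eq_one' (x := x)
      rwa [hPcard] at h9
    have hN : Subgroup.normalizer (P : Set D) ≤ Subgroup.centralizer (P : Set D) := by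
      refine Cfsg.Agent.Transfer.ElemAbAut.normalizer_le_centralizer 5 P hcommP ?_
      intro q hq hq1 hq2
      have h10 := Cfsg.Agent.Transfer.ElemAbAut.card_mulAut (T := (P : Subgroup D)) 5 1 hcommP
        hPpow (by rw [hPcard, pow_one])
      have h11 : q ∣ Nat.card (MulAut (P : Subgroup D)) := hq1
      rw [h10] at h11
      have h6 : q ∣ 2 ^ 2 := by simpa using h11
      have h7 : q = 2 := (Nat.prime_dvd_prime_iff_eq hq Nat.prime_two).mp
        (hq.dvd_of_dvd_pow h6)
      rw [h7] at hq2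
      exact absurd (even_iff_two_dvd.mpr hq2) (Nat.not_even_iff_odd.mpr hodd)
    have hcompl := MonoidHom.ker_transferSylow_isComplement' P hN
    set K := (MonoidHom.transferSylow P hN).ker with hK
    have hcardK : Nat.card K * 5 = Nat.card D := by
      rw [← hPcard]; exact hcompl.card_mul_card
    have hKsol : Group.IsSolvable K := by
      apply key
      have h8 : Nat.card K * 5 ∣ (3 ^ 4 * 7 ^ 2) * 5 := by
        rw [hcardK]; exact h2.trans (dvd_of_eq (by norm_num))
      exact Nat.dvd_of_mul_dvd_mul_right (by norm_num) h8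
    have hPsol : Group.IsSolvable P := Group.isSolvable_of_comm hcommP
    exact Group.isSolvable_of_ker_le_range K.subtype (MonoidHom.transferSylow P hN)
      (by rw [Subgroup.range_subtype])
  · apply key
    refine Nat.Coprime.dvd_of_dvd_mul_right (n := 5) ?_ ?_
    · exact ((Nat.Prime.coprime_iff_not_dvd (by norm_num)).mpr h5).symm
    · refine h2.trans (dvd_of_eq (by norm_num))

end Cfsg.Agent.LieRecognition.FT61.Six
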