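import Mathlib
import Cfsg.Agent.LieRecognition.FT61.Grp
import Cfsg.Agent.LieRecognition.FT61.Small
import Cfsg.Agent.LieRecognition.FT61.Red
import Cfsg.Agent.LieRecognition.FT61.Six
import Cfsg.Agent.LieRecognition.FT61.Zsig

/-!
# Odd-order groups transitive on the nonzero vectors of an elementary abelian group are solvable

Assembly (without the odd order theorem).
-/

set_option autoImplicit false
set_option linter.style.haveILetI false
set_option linter.unusedSectionVars false

namespace Cfsg.Agent.LieRecognition.FT61.ThmA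

open Matrix

/-- A nilpotent matrix of size `m ≤ p` has vanishing `p`-th power. -/
theorem pow_eq_zero_of_isNilpotent {k : Type*} [Field k] {m p : ℕ} (hm : m ≤ p)
    (A : Matrix (Fin m) (Fin m) k) (hA : IsNilpotent A) : A ^ p = 0 := by
  have h1 : IsNilpotent (Matrix.toLinAlgEquiv' A : Module.End k (Fin m → k)) := hA.map _
  have h2 := h1.charpoly_eq_X_pow_finrank
  have h3 := LinearMap.aeval_self_charpoly (Matrix.toLinAlgEquiv' A : Module.End k (Fin m → k))
  rw [h2, map_pow, Polynomial.aeval_X, Module.finrank_fin_fun, ← map_pow] at h3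
  have h4 : A ^ m = 0 := by
    apply (Matrix.toLinAlgEquiv' (R := k) (n := Fin m)).injective
    rw [h3, map_zero]
  exact pow_eq_zero_of_le hm h4

/-- In a linear group of degree less than `p` in characteristic `p`, `p`-elements have order dividing `p`. -/
theorem pow_eq_one {D : Type*} [Group D] {k : Type*} [Field k] {m p : ℕ} [Fact p.Prime] [CharP k p]
    (hm : m ≤ p) (τ : D →* GL (Fin m) k) (hτ : Function.Injective τ) {y : D} {a : ℕ}
    (hy : y ^ p ^ a = 1) : y ^ p = 1 := by
  rcases Nat.eq_zero_or_pos m with h0 | h0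
  · subst h0
    have : y = 1 := by
      apply hτ
      apply Units.ext
      ext i j
      exact i.elim0
    rw [this, one_pow]
  haveI : Nonempty (Fin m) := ⟨⟨0, h0⟩⟩
  haveI : CharP (Matrix (Fin m) (Fin m) k) p := inferInstance
  set A : Matrix (Fin m) (Fin m) k := (τ y : Matrix (Fin m) (Fin m) k) with hA
  have h1 : A ^ p ^ a = 1 := by
    rw [hA, ← Units.val_pow_eq_pow_val, ← map_pow, hy, map_one, Units.val_one]
  have hcomm : Commute A 1 := Commute.one_right A
  have h2 : (A - 1) ^ p ^ a = 0 := by
    rw [sub_pow_char_pow_of_commute p a hcomm, h1, one_pow, sub_self]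
  have h3 : (A - 1) ^ p = 0 := pow_eq_zero_of_isNilpotent hm _ ⟨_, h2⟩
  rw [sub_pow_char_of_commute p hcomm, one_pow, sub_eq_zero] at h3
  apply hτ
  apply Units.ext
  rw [map_pow, Units.val_pow_eq_pow_val, map_one, Units.val_one]
  exact h3

section

variable {D : Type*} [Group D] [Finite D]

/-- The linear action of an odd-order linear group over `𝔽₂` containing a primitive prime divisor element:
centralisers of elements of order `p` are cyclic. -/
theorem isCyclic_centralizer {n : ℕ} (σ : D →* GL (Fin n) (ZMod 2))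
    (hσ : Function.Injective σ) {p : ℕ} (hp : p.Prime) (hpn : p ∣ 2 ^ n - 1)
    (hpd : ∀ d, 0 < d → d < n → ¬ p ∣ 2 ^ d - 1) {z : D} (hz : orderOf z = p) :
    IsCyclic (Subgroup.centralizer ({z} : Set D)) := by
  haveI : Fact (Nat.Prime 2) := ⟨Nat.prime_two⟩
  let φ : D →* Module.End (ZMod 2) (Fin n → ZMod 2) :=
    ((Matrix.toLinAlgEquiv' (R := ZMod 2) (n := Fin n) : _ ≃ₐ[ZMod 2] _).toMulEquiv.toMonoidHom).comp
      ((Units.coeHom _).comp σ)
  have hφ : Function.Injective φ := by
    intro a b hab
    apply hσ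
    apply Units.ext
    exact (Matrix.toLinAlgEquiv' (R := ZMod 2) (n := Fin n)).injective hab
  have hcard : Nat.card (ZMod 2) = 2 := Nat.card_zmod 2
  have hrank : Module.finrank (ZMod 2) (Fin n → ZMod 2) = n := by simp
  exact Cfsg.Agent.LieExceptional.SingerCentralizer.isCyclic_centralizer φ hφ hp hz
    (by rw [hcard, hrank]; exact hpn) (by rw [hcard, hrank]; exact hpd)

/-- The `p`-part argument: an element of a finite group acting trivially whenever its `p'`-part does. -/
theorem isPGroup_ker {H H' : Type*} [Group H] [Group H'] {p : ℕ} [Fact p.Prime]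
    (ρ : D →* H) (hρ : Function.Injective ρ) (τ : D →* H')
    (h : ∀ g, ¬ p ∣ orderOf g → τ g = 1 → ρ g = 1) : IsPGroup p τ.ker := by
  rintro ⟨g, hg⟩
  have hpos : 0 < orderOf g := orderOf_pos g
  obtain ⟨a, b, hb, hab⟩ := Nat.exists_eq_pow_mul_and_not_dvd hpos.ne' p (Fact.out : p.Prime).ne_one
  refine ⟨a, ?_⟩
  apply Subtype.ext
  change g ^ p ^ a = 1
  have h1 : orderOf (g ^ p ^ a) = b := by
    rw [orderOf_pow_of_dvd (pow_ne_zero _ (Fact.out : p.Prime).ne_zero) (by rw [hab]; exact dvd_mul_right _ _), hab]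
    exact Nat.mul_div_cancel_left b (pow_pos (Fact.out : p.Prime).pos a)
  apply hρ
  rw [map_one]
  apply h
  · rw [h1]; exact hb
  · have : τ g = 1 := hg
    rw [map_pow, this, one_pow]

/-- **Theorem A.** Let `D ≤ GL_n(2)` be of odd order and `p` a primitive prime divisor of `2 ^ n - 1`.
Then the Sylow `p`-subgroups of `D` are normal. -/
theorem sylow_normal (hodd : Odd (Nat.card D)) {n : ℕ} (σ : D →* GL (Fin n) (ZMod 2))
    (hσ : Function.Injective σ) {p : ℕ} [hp : Fact p.Prime] (hpn : p ∣ 2 ^ n - 1)
    (hpd : ∀ d, 0 < d → d < n → ¬ p ∣ 2 ^ d - 1) (P : Sylow p D)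
    (thmC : ∀ (k : Type) [Field k] [CharP k p] (m : ℕ) (ρ : Representation k D (Fin m → k)),
      Function.Injective ρ → 2 * Module.finrank k (Fin m → k) < p → Nat.card P = p →
        (P : Subgroup D).Normal) :
    (P : Subgroup D).Normal := by
  by_cases hP : (P : Subgroup D) = ⊥
  · rw [hP]; infer_instance
  obtain ⟨z, hzP, hz, -⟩ := Grp.exists_central_orderOf P hP
  have hcyc : ∀ z : D, orderOf z = p → IsCyclic (Subgroup.centralizer ({z} : Set D)) := fun z hz =>
    isCyclic_centralizer σ hσ hp.out hpn hpd hz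
  obtain ⟨K, _, _, m, ρ, hρ, hm⟩ := Small.exists_small hodd σ hσ hp.out hpn hpd hz
  obtain ⟨k, _, _, τ, hτ⟩ := Red.exists_reduction p ρ
  by_cases hker : τ.ker = ⊥
  · have hτi : Function.Injective τ := (MonoidHom.ker_eq_bot_iff τ).1 hker
    haveI := Grp.isCyclic_sylow hcyc P hP
    have hcard : Nat.card P = p := by
      obtain ⟨g, hg⟩ := IsCyclic.exists_ofOrder_eq_natCard (α := (P : Subgroup D))
      have h1 : (g : D) ^ p = 1 := by
        obtain ⟨a, ha⟩ := P.isPGroup' g
        refine pow_eq_one (a := a) (by omega) τ hτi ?_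
        exact congrArg Subtype.val ha
      have h2 : orderOf g ∣ p := by
        rw [← Subgroup.orderOf_coe]
        exact orderOf_dvd_of_pow_eq_one h1
      rcases (Nat.dvd_prime hp.out).1 h2 with h3 | h3
      · exfalso
        apply hP
        rw [h3] at hg
        exact Subgroup.eq_bot_of_card_eq _ hg.symm
      · rw [← hg]; exact h3
    let r : Representation k D (Fin m → k) :=
      ((Matrix.toLinAlgEquiv' (R := k) (n := Fin m) : _ ≃ₐ[k] _).toMulEquiv.toMonoidHom).comp
        ((Units.coeHom _).comp τ)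
    have hr : Function.Injective r := by
      intro a b hab
      apply hτi
      apply Units.ext
      exact (Matrix.toLinAlgEquiv' (R := k) (n := Fin m)).injective hab
    exact thmC k m r hr (by rw [Module.finrank_fin_fun]; exact hm) hcard
  · exact Grp.normal_of_normal_pSubgroup hcyc P τ.ker inferInstance (isPGroup_ker ρ hρ τ hτ) hker

/-- Matrix form of the main theorem. -/
theorem isSolvable_matrix (hodd : Odd (Nat.card D)) {n : ℕ} (hn : 0 < n) (σ : D →* GL (Fin n) (ZMod 2))
    (hσ : Function.Injective σ)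
    (htrans : ∀ a b : Fin n → ZMod 2, a ≠ 0 → b ≠ 0 →
      ∃ d : D, Matrix.mulVec (σ d : Matrix (Fin n) (Fin n) (ZMod 2)) a = b)
    (hcard : 2 ^ n - 1 ∣ Nat.card D)
    (thmC : ∀ (p : ℕ) [Fact p.Prime] (P : Sylow p D)
      (k : Type) [Field k] [CharP k p] (m : ℕ) (ρ : Representation k D (Fin m → k)),
      Function.Injective ρ → 2 * Module.finrank k (Fin m → k) < p → Nat.card P = p →
        (P : Subgroup D).Normal) : Group.IsSolvable D := by
  by_cases h6 : n = 6
  · subst h6
    exact Six.isSolvable_six hodd σ hσ htrans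
  rcases Nat.lt_or_ge n 2 with h2 | h2
  · -- `n = 1`
    obtain rfl : n = 1 := by omega
    have hsub : Subsingleton D := by
      refine ⟨fun a b => hσ ?_⟩
      have key : ∀ A : GL (Fin 1) (ZMod 2), A = 1 := by
        intro A
        apply Units.ext
        ext i j
        have hi : i = 0 := Subsingleton.elim _ _
        have hj : j = 0 := Subsingleton.elim _ _
        subst hi hj
        have h1 : (A : Matrix (Fin 1) (Fin 1) (ZMod 2)) * (A⁻¹ : GL (Fin 1) (ZMod 2)) = 1 := A.mul_inv
        have h2 := congrFun (congrFun h1 0) 0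
        rw [Matrix.mul_apply, Fin.sum_univ_one] at h2
        have h3 : ∀ x y : ZMod 2, x * y = 1 → x = 1 := by decide
        rw [Units.val_one, Matrix.one_apply_eq]
        exact h3 _ _ h2
      rw [key (σ a), key (σ b)]
    exact inferInstance
  · obtain ⟨p, hp, hpn, hpd⟩ := Zsig.exists_primitive_prime h2 h6
    haveI : Fact p.Prime := ⟨hp⟩
    obtain ⟨P⟩ : Nonempty (Sylow p D) := inferInstance
    have hPn := sylow_normal hodd σ hσ hpn hpd P (thmC p P)
    have hne : (P : Subgroup D) ≠ ⊥ := by
      intro h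
      have h1 := P.dvd_card_of_dvd_card (hpn.trans hcard)
      rw [h, Subgroup.card_bot] at h1
      exact hp.one_lt.ne' (Nat.dvd_one.1 h1)
    exact Grp.isSolvable_of_normal
      (fun z hz => isCyclic_centralizer σ hσ hp hpn hpd hz) P hne hPn

end

/-- **Main theorem**: an odd-order group acting faithfully on an elementary abelian group and transitively
on its nonzero elements is solvable. -/
theorem isSolvable {D E : Type*} [Group D] [Finite D]
    [AddCommGroup E] [Finite E] [Nontrivial E] [DistribMulAction D E] [FaithfulSMul D E]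
    (hodd : Odd (Nat.card D)) {q : ℕ} (hq : q.Prime) (hE : ∀ e : E, q • e = 0)
    (htrans : ∀ a b : E, a ≠ 0 → b ≠ 0 → ∃ d : D, d • a = b)
    (thmC : ∀ (p : ℕ) [Fact p.Prime] (P : Sylow p D)
      (k : Type) [Field k] [CharP k p] (m : ℕ) (ρ : Representation k D (Fin m → k)),
      Function.Injective ρ → 2 * Module.finrank k (Fin m → k) < p → Nat.card P = p →
        (P : Subgroup D).Normal) : Group.IsSolvable D := by
  classical
  obtain ⟨e, he⟩ := exists_ne (0 : E)
  have hq2 : q = 2 := by
    by_contra hne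
    have hqodd : Odd q := hq.odd_of_ne_two hne
    obtain ⟨d, hd⟩ := htrans e (-e) he (neg_ne_zero.2 he)
    have h1 : ∀ k : ℕ, d ^ (2 * k) • e = e := by
      intro k
      induction k with
      | zero => simp
      | succ k ih =>
        rw [mul_add, pow_add, mul_smul, mul_one, pow_two, mul_smul, hd, smul_neg, hd, neg_neg, ih]
    have h2 : Odd (orderOf d) := by
      obtain ⟨c, hc⟩ := orderOf_dvd_natCard d
      rw [hc] at hodd
      exact (Nat.odd_mul.1 hodd).1
    obtain ⟨k, hk⟩ := h2
    have h3 : d ^ (2 * k + 1) • e = e := by rw [← hk, pow_orderOf_eq_one, one_smul]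
    rw [pow_succ, mul_smul, hd, smul_neg, h1] at h3
    -- `-e = e`
    have h4 : 2 • e = 0 := by
      rw [two_nsmul]
      nth_rewrite 1 [← h3]
      exact neg_add_cancel e
    obtain ⟨m, hm⟩ := hqodd
    have h5 := hE e
    rw [hm, add_smul, mul_comm, mul_smul, h4, smul_zero, zero_add, one_smul] at h5
    exact he h5
  subst hq2
  letI : Module (ZMod 2) E := AddCommGroup.zmodModule hE
  haveI : Fact (Nat.Prime 2) := ⟨Nat.prime_two⟩
  haveI : Module.Finite (ZMod 2) E := Module.Finite.of_finite
  obtain ⟨n, hn⟩ : ∃ n, n = Module.finrank (ZMod 2) E := ⟨_, rfl⟩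
  have hnpos : 0 < n := by rw [hn]; exact Module.finrank_pos
  have b : Module.Basis (Fin n) (ZMod 2) E := by rw [hn]; exact Module.finBasis (ZMod 2) E
  have hcardE : Nat.card E = 2 ^ n := by
    rw [Module.natCard_eq_pow_finrank (K := ZMod 2), Nat.card_zmod, ← hn]
  have hdvd : 2 ^ n - 1 ∣ Nat.card D := by
    have h1 : (MulAction.stabilizer D e).index ∣ Nat.card D := Subgroup.index_dvd_card _
    rw [MulAction.index_stabilizer] at h1
    have h2 : MulAction.orbit D e = {x : E | x ≠ 0} := by
      ext x
      constructor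
      · rintro ⟨d, rfl⟩
        exact fun h => he ((smul_eq_zero_iff_eq d).1 h)
      · intro hx
        obtain ⟨d, hd⟩ := htrans e x he hx
        exact ⟨d, hd⟩
    have h3 : {x : E | x ≠ 0} = ({0} : Set E)ᶜ := by
      ext x
      simp
    rw [h2, h3, Set.ncard_compl, Set.ncard_singleton, hcardE] at h1
    exact h1
  let φ : D →* Module.End (ZMod 2) E :=
    { toFun := fun d => (DistribSMul.toAddMonoidHom E d).toZModLinearMap 2
      map_one' := by
        ext x
        exact one_smul D x
      map_mul' := by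
        intro c d
        ext x
        exact mul_smul c d x }
  have hφ : ∀ d x, φ d x = d • x := fun _ _ => rfl
  let ψ : D →* Matrix (Fin n) (Fin n) (ZMod 2) :=
    ((LinearMap.toMatrixAlgEquiv b).toRingEquiv.toMonoidHom : Module.End (ZMod 2) E →* _).comp φ
  have hψ : ∀ d x, (ψ d) *ᵥ (b.equivFun x) = b.equivFun (d • x) := by
    intro d x
    have := LinearMap.toMatrix_mulVec_repr b b (φ d) x
    exact this
  refine isSolvable_matrix hodd hnpos ψ.toHomUnits ?_ ?_ hdvd thmC
  · intro c d hcd
    have h1 : ψ c = ψ d := congrArg Units.val hcd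
    apply FaithfulSMul.eq_of_smul_eq_smul (α := E)
    intro x
    apply b.equivFun.injective
    rw [← hψ, ← hψ, h1]
  · intro x y hx hy
    obtain ⟨d, hd⟩ := htrans (b.equivFun.symm x) (b.equivFun.symm y)
      (fun h => hx (by rw [← b.equivFun.apply_symm_apply x, h, map_zero]))
      (fun h => hy (by rw [← b.equivFun.apply_symm_apply y, h, map_zero]))
    refine ⟨d, ?_⟩
    have h1 := hψ d (b.equivFun.symm x)
    rw [hd, LinearEquiv.apply_symm_apply, LinearEquiv.apply_symm_apply] at h1
    exact h1

end Cfsg.Agent.LieRecognition.FT61.ThmA
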